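import Mathlib

/-! A subgroup containing root elements whose fusion it controls absorbs the `p`-subgroups through roots. -/

set_option autoImplicit false
set_option linter.unusedSectionVars false

namespace Cfsg.Lib.Classical.TensorQ

variable {G : Type*} [Group G] [Finite G] {p : ℕ} [Fact p.Prime]

/-- `M` controls the fusion in `X` of the elements satisfying `R`. -/
structure Rooted (p : ℕ) (X M : Subgroup G) (R : G → Prop) : Prop where
  le : M ≤ X
  mem : ∀ r, R r → r ∈ M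
  pow : ∀ r, R r → r ^ p = 1
  fuse : ∀ g ∈ X, ∀ r, R r → g * r * g⁻¹ ∈ M → R (g * r * g⁻¹)
  ctrl : ∀ g ∈ X, ∀ r, R r → R (g * r * g⁻¹) → g ∈ M

variable {X M : Subgroup G} {R : G → Prop}

theorem Rooted.le_of_isPGroup (h : Rooted p X M R) {P : Subgroup G} (hP : IsPGroup p P) (hPX : P ≤ X) {r : G}
    (hrP : r ∈ P) (hr : R r) : P ≤ M := by
  by_contra hne
  haveI : Group.IsNilpotent P := hP.isNilpotent
  have hlt : M.subgroupOf P < ⊤ := lt_of_le_of_ne le_top fun e => hne (by rwa [Subgroup.subgroupOf_eq_top] at e)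
  obtain ⟨x, hxN, hxM⟩ := SetLike.exists_of_lt (Group.normalizerCondition_of_isNilpotent (G := P) _ hlt)
  have hc : (x : G) * r * (x : G)⁻¹ ∈ M :=
    (Subgroup.mem_normalizer_iff.mp hxN ⟨r, hrP⟩).mp (Subgroup.mem_subgroupOf.mpr (h.mem r hr))
  exact hxM (Subgroup.mem_subgroupOf.mpr (h.ctrl x (hPX x.2) r hr (h.fuse x (hPX x.2) r hr hc)))

/-- If a subgroup of `X` contains a root and a conjugate of a root, the conjugating element lies in its product
with `M`. -/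
theorem Rooted.exists_mul_mem (h : Rooted p X M R) {S : Subgroup G} (hS : S ≤ X) {g r r₂ : G} (hg : g ∈ X)
    (hr : R r) (hr₂ : R r₂) (hgr : g * r * g⁻¹ ∈ S) (hr₂S : r₂ ∈ S) : ∃ c ∈ S, c * g ∈ M := by
  classical
  have hp : ∀ s : S, s ^ p = 1 → IsPGroup p (Subgroup.zpowers s) := by
    intro s hs z
    obtain ⟨k, hk⟩ := Subgroup.mem_zpowers_iff.mp z.2
    refine ⟨1, Subtype.ext ?_⟩
    rw [SubmonoidClass.coe_pow, pow_one, ← hk, ← zpow_natCast, ← zpow_mul, mul_comm, zpow_mul, zpow_natCast, hs,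
      one_zpow, OneMemClass.coe_one]
  obtain ⟨P₁, hP₁⟩ := (hp ⟨_, hgr⟩ (Subtype.ext (by
    show (g * r * g⁻¹) ^ p = 1
    rw [conj_pow, h.pow r hr, mul_one, mul_inv_cancel]))).exists_le_sylow
  obtain ⟨P₂, hP₂⟩ := (hp ⟨_, hr₂S⟩ (Subtype.ext (h.pow r₂ hr₂))).exists_le_sylow
  obtain ⟨c, hc⟩ := MulAction.exists_smul_eq S P₁ P₂
  have hle : (P₂ : Subgroup S).map S.subtype ≤ M :=
    h.le_of_isPGroup (P₂.2.map _) (fun _ ⟨z, _, hz⟩ => hz ▸ hS z.2)
      ⟨⟨_, hr₂S⟩, hP₂ (Subgroup.mem_zpowers _), rfl⟩ hr₂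
  have hmem : c * (⟨_, hgr⟩ : S) * c⁻¹ ∈ (P₂ : Subgroup S) := by
    rw [← hc]
    exact ⟨_, hP₁ (Subgroup.mem_zpowers _), rfl⟩
  have hM : ((c : G) * g) * r * ((c : G) * g)⁻¹ ∈ M := by
    have := hle ⟨_, hmem, rfl⟩
    convert this using 1
    show _ = (c : G) * (g * r * g⁻¹) * (c : G)⁻¹
    group
  exact ⟨c, c.2, h.ctrl _ (mul_mem (hS c.2) hg) r hr (h.fuse _ (mul_mem (hS c.2) hg) r hr hM)⟩

end Cfsg.Lib.Classical.TensorQ
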