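import Cfsg.Agent.Classical.TensorQ.Setup

/-! An algebra of endomorphisms of a symplectic space, invariant under transvections and containing a non-scalar,
contains a transvection minus one. -/

set_option autoImplicit false
set_option linter.unusedSectionVars false
set_option linter.unusedSimpArgs false

namespace Cfsg.Lib.Classical.TensorQ

universe u

variable {γ : Type} [Fintype γ] [DecidableEq γ] {F : Type u} [Field F]

/-- The map `x ↦ B(x, p) q`. -/
def rk (B : LinearMap.BilinForm F (γ → F)) (p q : γ → F) : (γ → F) →ₗ[F] (γ → F) := (B.flip p).smulRight q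

theorem rk_apply (B : LinearMap.BilinForm F (γ → F)) (p q x : γ → F) : rk B p q x = B x p • q := rfl

/-- A transvection. -/
def transv (B : LinearMap.BilinForm F (γ → F)) (d : γ → F) (t : F) : (γ → F) →ₗ[F] (γ → F) :=
  LinearMap.id + t • rk B d d

theorem transv_apply (B : LinearMap.BilinForm F (γ → F)) (d : γ → F) (t : F) (x : γ → F) :
    transv B d t x = x + (t * B x d) • d := by
  rw [transv, LinearMap.add_apply, LinearMap.id_apply, LinearMap.smul_apply, rk_apply, smul_smul]

theorem scalar_of_eigen (A : (γ → F) →ₗ[F] (γ → F)) (h : ∀ d, d ≠ 0 → ∃ c : F, A d = c • d) :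
    ∃ c : F, A = c • LinearMap.id := by
  by_cases hz : ∀ d : γ → F, d = 0
  · exact ⟨0, LinearMap.ext fun x => by rw [hz x, map_zero, map_zero]⟩
  push Not at hz
  obtain ⟨d, hd⟩ := hz
  obtain ⟨c, hc⟩ := h d hd
  refine ⟨c, LinearMap.ext fun x => ?_⟩
  rw [LinearMap.smul_apply, LinearMap.id_apply]
  by_cases hx : x ∈ Submodule.span F {d}
  · obtain ⟨s, rfl⟩ := Submodule.mem_span_singleton.mp hx
    rw [map_smul, hc, smul_comm]
  · have hx0 : x ≠ 0 := fun e => hx (e ▸ zero_mem _)
    have hxd : x + d ≠ 0 := fun e => hx (by rw [eq_neg_of_add_eq_zero_left e]; exact neg_mem (Submodule.mem_span_singleton_self d))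
    obtain ⟨c₁, h₁⟩ := h x hx0
    obtain ⟨c₂, h₂⟩ := h _ hxd
    rw [map_add, h₁, hc, smul_add] at h₂
    have e : (c₁ - c₂) • x = (c₂ - c) • d := by
      rw [sub_smul, sub_smul]
      linear_combination (norm := module) h₂
    have h12 : c₁ = c₂ := by
      by_contra hne
      refine hx (Submodule.mem_span_singleton.mpr ⟨(c₁ - c₂)⁻¹ * (c₂ - c), ?_⟩)
      rw [mul_smul, ← e, smul_smul, inv_mul_cancel₀ (sub_ne_zero.mpr hne), one_smul]
    rw [h12, sub_self, zero_smul] at e
    rw [h₁, h12, sub_eq_zero.mp ((smul_eq_zero.mp e.symm).resolve_right hd)]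

variable {B : LinearMap.BilinForm F (γ → F)}

/-- The closure properties used. -/
structure Closed (B : LinearMap.BilinForm F (γ → F)) (S : ((γ → F) →ₗ[F] (γ → F)) → Prop) : Prop where
  add : ∀ A A', S A → S A' → S (A + A')
  neg : ∀ A, S A → S (-A)
  smul : ∀ (c : F) A, S A → S (c • A)
  comp : ∀ A A', S A → S A' → S (A.comp A')
  conj : ∀ d t A, S A → S ((transv B d t).comp (A.comp (transv B d (-t))))

theorem Closed.diff {S : ((γ → F) →ₗ[F] (γ → F)) → Prop} (hS : Closed B S) (d : γ → F) (t : F) {A : (γ → F) →ₗ[F] (γ → F)}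
    (hA : S A) : S ((transv B d t).comp (A.comp (transv B d (-t))) - A) := by
  rw [sub_eq_add_neg]
  exact hS.add _ _ (hS.conj d t A hA) (hS.neg A hA)

theorem rank_one_mem {S : ((γ → F) →ₗ[F] (γ → F)) → Prop} (h : Alt B) (hS : Closed B S)
    (h2 : 2 ≤ Fintype.card γ) (hbig : Fintype.card γ = 2 → ∃ c : F, c ≠ 0 ∧ c ≠ 1) {A : (γ → F) →ₗ[F] (γ → F)}
    (hA : S A) (hns : ∀ c : F, A ≠ c • LinearMap.id) : ∃ d : γ → F, d ≠ 0 ∧ S (rk B d d) := by
  obtain ⟨d, hd0, hd⟩ : ∃ d, d ≠ 0 ∧ ∀ c : F, A d ≠ c • d := by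
    by_contra hc
    push Not at hc
    obtain ⟨c, e⟩ := scalar_of_eigen A hc
    exact hns c e
  refine ⟨d, hd0, ?_⟩
  obtain ⟨v', hv'⟩ := h.exists_rep ((B.flip d).comp A)
  have hv : ∀ x, B x v' = B (A x) d := hv'
  set c := B (A d) d with hc
  set v'' := A d + c • d with hv''
  have hΔ : ∀ t : F, (transv B d t).comp (A.comp (transv B d (-t))) - A =
      t • (rk B v' d - rk B d (A d)) - (t * t * c) • rk B d d := fun t => LinearMap.ext fun x => by
    simp only [LinearMap.sub_apply, LinearMap.comp_apply, LinearMap.smul_apply, rk_apply, transv_apply, map_add,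
      map_smul, LinearMap.add_apply, smul_eq_mul, hv, ← hc]
    module
  by_cases h3 : Fintype.card γ = 2
  · obtain ⟨c₀, hc₀, hc₁⟩ := hbig h3
    have hc0 : c ≠ 0 := by
      intro h0
      have hle : Submodule.span F {d} ≤ LinearMap.ker (B d) := by
        rw [Submodule.span_singleton_le_iff_mem, LinearMap.mem_ker, h.self]
      have heq : Submodule.span F {d} = LinearMap.ker (B d) := by
        refine Submodule.eq_of_le_of_finrank_le hle ?_
        rw [finrank_span_singleton hd0]
        obtain ⟨w, hw⟩ := h.exists_one hd0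
        have h1 := (B d).finrank_range_add_finrank_ker
        have hr : LinearMap.range (B d) ≠ ⊥ := fun e => by
          have := congrArg (fun f : (γ → F) →ₗ[F] F => f w) (LinearMap.range_eq_bot.mp e)
          simp only [LinearMap.zero_apply] at this
          rw [h.skew, this, neg_zero] at hw
          exact zero_ne_one hw
        have h1' := Submodule.one_le_finrank_iff.mpr hr
        rw [Module.finrank_pi] at h1
        omega
      have : A d ∈ Submodule.span F {d} := by
        rw [heq, LinearMap.mem_ker]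
        exact h.swap h0
      obtain ⟨s, hs⟩ := Submodule.mem_span_singleton.mp this
      exact hd s hs.symm
    have h1 := hS.smul c₀ _ (hS.diff d 1 hA)
    have h2' := hS.neg _ (hS.diff d c₀ hA)
    have := hS.smul ((c₀ * c₀ - c₀) * c)⁻¹ _ (hS.add _ _ h1 h2')
    rw [hΔ, hΔ] at this
    convert this using 1
    have hne : (c₀ * c₀ - c₀) * c ≠ 0 :=
      mul_ne_zero (by rw [← mul_sub_one]; exact mul_ne_zero hc₀ (sub_ne_zero.mpr hc₁)) hc0
    rw [eq_inv_smul_iff₀ hne]
    module
  have hΔ1 : S (rk B v' d - rk B d v'') := by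
    have := hS.diff d 1 hA
    rw [hΔ] at this
    convert this using 1
    refine LinearMap.ext fun x => ?_
    simp only [LinearMap.sub_apply, LinearMap.smul_apply, rk_apply, hv'']
    module
  have hv''d : ∀ s : F, v'' ≠ s • d := fun s hs => hd (s - c) (by
    rw [sub_smul, ← hs, hv'', add_sub_cancel_right])
  obtain ⟨g₀, hg₀d, hg₀⟩ : ∃ g₀, B d g₀ = 0 ∧ B v'' g₀ = 1 := by
    obtain ⟨g, hgd, hg⟩ : ∃ g, B d g = 0 ∧ B v'' g ≠ 0 := by
      by_contra hc'
      push Not at hc'
      obtain ⟨s, hs⟩ := h.mem_line hd0 hc'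
      exact hv''d s hs
    exact ⟨(B v'' g)⁻¹ • g, by rw [map_smul, hgd, smul_zero], by rw [map_smul, smul_eq_mul, inv_mul_cancel₀ hg]⟩
  obtain ⟨g, hgd, hg, hgs⟩ : ∃ g, B d g = 0 ∧ B v'' g = 1 ∧ ∀ s : F, g ≠ s • d := by
    by_cases hs₀ : ∀ s : F, g₀ ≠ s • d
    · exact ⟨g₀, hg₀d, hg₀, hs₀⟩
    push Not at hs₀
    obtain ⟨s₀, hs₀⟩ := hs₀
    obtain ⟨x, hx, hx0⟩ : ∃ x ∈ LinearMap.ker ((B d).prod (B v'')), x ≠ 0 := by
      refine Submodule.exists_mem_ne_zero_of_ne_bot ?_
      apply LinearMap.ker_ne_bot_of_finrank_lt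
      rw [Module.finrank_prod, Module.finrank_pi, Module.finrank_self]
      omega
    have hx1 : B d x = 0 ∧ B v'' x = 0 := ⟨congrArg Prod.fst hx, congrArg Prod.snd hx⟩
    clear hx
    have hx := hx1
    refine ⟨g₀ + x, by rw [map_add, hg₀d, hx.1, add_zero], by rw [map_add, hg₀, hx.2, add_zero], fun s hs => ?_⟩
    rw [hs₀] at hs hg₀
    rw [show x = (s - s₀) • d by rw [sub_smul, ← hs, add_sub_cancel_left]] at hx hx0
    rw [map_smul, smul_eq_mul] at hg₀
    have hx2 := hx.2
    rw [map_smul, smul_eq_mul] at hx2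
    rcases mul_eq_zero.mp hx2 with h0 | h0
    · exact hx0 (by rw [h0, zero_smul])
    · rw [h0, mul_zero] at hg₀
      exact zero_ne_one hg₀
  set μ := B v' g with hμ
  let M : (γ → F) → ((γ → F) →ₗ[F] (γ → F)) := fun y => μ • rk B y d - rk B d y
  have hMg : S (M g) := by
    have := hS.diff g 1 hΔ1
    convert this using 1
    refine LinearMap.ext fun x => ?_
    simp only [M, LinearMap.sub_apply, LinearMap.smul_apply, LinearMap.comp_apply, rk_apply, transv_apply, map_add,
      map_smul, map_sub, LinearMap.add_apply, LinearMap.smul_apply, smul_eq_mul, hgd, hg, ← hμ, h.skew v' g,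
      h.skew d g, h.skew v'' g, h.self]
    module
  obtain ⟨k, hkd, hk⟩ : ∃ k, B d k = 0 ∧ B g k = 1 := by
    obtain ⟨k, hkd, hk⟩ : ∃ k, B d k = 0 ∧ B g k ≠ 0 := by
      by_contra hc'
      push Not at hc'
      obtain ⟨s, hs⟩ := h.mem_line hd0 hc'
      exact hgs s hs
    exact ⟨(B g k)⁻¹ • k, by rw [map_smul, hkd, smul_zero], by rw [map_smul, smul_eq_mul, inv_mul_cancel₀ hk]⟩
  have hMk : ∀ k, B d k = 0 → B g k = 1 → S (M k) := by
    intro k hkd hk
    have := hS.diff k 1 hMg
    convert this using 1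
    refine LinearMap.ext fun x => ?_
    simp only [M, LinearMap.sub_apply, LinearMap.smul_apply, LinearMap.comp_apply, rk_apply, transv_apply, map_add,
      map_smul, map_sub, LinearMap.add_apply, LinearMap.smul_apply, smul_eq_mul, hkd, hk, h.skew g k, h.skew d k,
      h.skew d g, hgd, h.self]
    module
  by_cases hμ1 : μ = 1
  · have := hS.comp _ _ hMg (hMk k hkd hk)
    convert this using 1
    refine LinearMap.ext fun x => ?_
    simp only [M, hμ1, one_smul, LinearMap.sub_apply, LinearMap.comp_apply, rk_apply, map_sub, map_smul,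
      LinearMap.smul_apply, smul_eq_mul, h.self, hgd, h.swap hgd, h.swap hkd, h.skew g k, hk]
    module
  · have h1 := hMk (k + d) (by rw [map_add, hkd, h.self, add_zero]) (by rw [map_add, hk, h.swap hgd, add_zero])
    have := hS.smul (μ - 1)⁻¹ _ (hS.add _ _ h1 (hS.neg _ (hMk k hkd hk)))
    convert this using 1
    rw [eq_inv_smul_iff₀ (sub_ne_zero.mpr hμ1)]
    refine LinearMap.ext fun x => ?_
    simp only [M, LinearMap.sub_apply, LinearMap.smul_apply, LinearMap.add_apply, LinearMap.neg_apply, rk_apply,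
      map_add, LinearMap.add_apply]
    module

end Cfsg.Lib.Classical.TensorQ
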