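import Cfsg.Agent.Classical.TensorQ.Elements

/-! If the radical elements of `X` are Kronecker products, the stabiliser of `U ⊗ e` in `X` consists of such. -/

set_option autoImplicit false
set_option linter.unusedSectionVars false
set_option linter.unusedSimpArgs false
set_option linter.style.haveILetI false

namespace Cfsg.Lib.Classical.TensorQ

open Matrix Finset
open scoped Kronecker
open Cfsg.Lib.Classical.TensorMax (pure pure_apply pure_single pure_ne_zero pure_add_left pure_add_right pure_smul_left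
  pure_smul_right pure_zero_left pure_zero_right pureL pureR IsKron kronGL kronGL_val kron_mulVec_pure isKron_of_mat)

universe u

variable {α β : Type} [Fintype α] [DecidableEq α] [Fintype β] [DecidableEq β] {F : Type u} [Field F] [Finite F]
  {B₁ : LinearMap.BilinForm F (α → F)} {B₂ : LinearMap.BilinForm F (β → F)} {Q : QuadraticForm F (α × β → F)}
  {X : Subgroup (GL (α × β) F)}

/-- A subgroup between the Kronecker products in `Ω` and `Ω`. -/
structure Mid (Q : QuadraticForm F (α × β → F)) (X : Subgroup (GL (α × β) F)) : Prop where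
  le : X ≤ Cfsg.Geo.omegaGL (⇑Q)
  kron : ∀ g, IsKron g → g ∈ Cfsg.Geo.omegaGL (⇑Q) → g ∈ X

theorem Mid.isom (hX : Mid Q X) {g : GL (α × β) F} (hg : g ∈ X) : g ∈ Cfsg.isometryGroup F (⇑Q) :=
  omega_le_isom (hX.le hg)

/-- `k` is in the unipotent radical of the stabiliser of `U ⊗ e`. -/
structure IsRad (B₂ : LinearMap.BilinForm F (β → F)) (e : β → F) (k : GL (α × β) F) : Prop where
  fix : ∀ v, (k : Matrix (α × β) (α × β) F) *ᵥ pure v e = pure v e
  perp : ∀ x, cw B₂ e x = 0 → ∃ c, (k : Matrix (α × β) (α × β) F) *ᵥ x = x + pure c e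

/-- Every radical element of `X` is a Kronecker product. -/
def RadScalar (B₂ : LinearMap.BilinForm F (β → F)) (X : Subgroup (GL (α × β) F)) : Prop :=
  ∀ e : β → F, e ≠ 0 → ∀ k ∈ X, IsRad B₂ e k → IsKron k

theorem kron_fix_left {k : GL (α × β) F} (hk : IsKron k) {e : β → F} (he : e ≠ 0)
    (hfix : ∀ v, (k : Matrix (α × β) (α × β) F) *ᵥ pure v e = pure v e) :
    ∃ s : (β → F) →ₗ[F] (β → F), ∀ v z, (k : Matrix (α × β) (α × β) F) *ᵥ pure v z = pure v (s z) := by
  obtain ⟨a, b, hk⟩ := hk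
  obtain ⟨k₀, hk₀⟩ := Function.ne_iff.mp he
  simp only [Pi.zero_apply] at hk₀
  set be := ((b : Matrix β β F) *ᵥ e) k₀ with hbe
  have hav : ∀ v : α → F, be • ((a : Matrix α α F) *ᵥ v) = e k₀ • v := by
    intro v
    funext i
    have := congrFun (hfix v) (i, k₀)
    rw [hk, kron_mulVec_pure, pure_apply, pure_apply] at this
    simp only [Pi.smul_apply, smul_eq_mul, hbe]
    linear_combination this
  by_cases h0 : be = 0
  · have hs : ∀ v : α → F, v = 0 := fun v => by
      have := hav v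
      rw [h0, zero_smul] at this
      exact (smul_eq_zero.mp this.symm).resolve_left hk₀
    refine ⟨LinearMap.id, fun v z => ?_⟩
    rw [hs v, pure_zero_left, mulVec_zero, pure_zero_left]
  · refine ⟨(e k₀ / be) • (b : Matrix β β F).mulVecLin, fun v z => ?_⟩
    have ha : (a : Matrix α α F) *ᵥ v = (e k₀ / be) • v := by
      rw [div_eq_inv_mul, mul_smul, ← hav, smul_smul, inv_mul_cancel₀ h0, one_smul]
    rw [hk, kron_mulVec_pure, ha, pure_smul_left, LinearMap.smul_apply, pure_smul_right, Matrix.mulVecLin_apply]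

namespace TS

variable (S : TS B₁ B₂ Q)
include S

theorem cv_cw (d : α → F) (w : β → F) (x : α × β → F) : B₂ (cv B₁ d x) w = B₁ (cw B₂ w x) d :=
  DFunLike.congr_fun (ext_pure (L := (B₂.flip w).comp (cv B₁ d)) (L' := (B₁.flip d).comp (cw B₂ w)) fun v z => by
    show B₂ (cv B₁ d (pure v z)) w = B₁ (cw B₂ w (pure v z)) d
    rw [cv_pure, cw_pure, map_smul, LinearMap.smul_apply, map_smul, LinearMap.smul_apply, smul_eq_mul, smul_eq_mul,
      mul_comm]) x

theorem rows_perp {e : β → F} {x : α × β → F} (hx : cw B₂ e x = 0) (i : α) : B₂ (fun k => x (i, k)) e = 0 :=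
  congrFun hx i

/-- The product of three transvections acting as a radical element of the second factor. -/
theorem exists_radW (hX : Mid Q X) {e w : β → F} (hew : B₂ e w = 0) :
    ∃ R ∈ X, IsKron R ∧ ∀ y, (R : Matrix (α × β) (α × β) F) *ᵥ y =
      y + pure (cw B₂ w y) e + pure (cw B₂ e y) w := by
  obtain ⟨t₁, k₁, o₁, a₁⟩ := S.exists_tW (e + w) 1
  obtain ⟨t₂, k₂, o₂, a₂⟩ := S.exists_tW e (-1)
  obtain ⟨t₃, k₃, o₃, a₃⟩ := S.exists_tW w (-1)
  refine ⟨t₁ * t₂ * t₃, mul_mem (mul_mem (hX.kron _ k₁ o₁) (hX.kron _ k₂ o₂)) (hX.kron _ k₃ o₃),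
    (k₁.mul k₂).mul k₃, fun y => ?_⟩
  refine DFunLike.congr_fun (ext_pure (L := ((t₁ * t₂ * t₃ : GL (α × β) F) : Matrix (α × β) (α × β) F).mulVecLin)
    (L' := LinearMap.id + (pureL e).comp (cw B₂ w) + (pureL w).comp (cw B₂ e)) fun v z => ?_) y
  show _ *ᵥ pure v z = pure v z + pure (cw B₂ w (pure v z)) e + pure (cw B₂ e (pure v z)) w
  rw [mul_mulVec_GL, mul_mulVec_GL, a₃, a₂, a₁, cw_pure, cw_pure, pure_smul_left, pure_smul_left, ← pure_smul_right,
    ← pure_smul_right, ← pure_add_right, ← pure_add_right]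
  congr 1
  simp only [map_add, LinearMap.add_apply, map_smul, LinearMap.smul_apply, smul_eq_mul, S.alt₂.self, hew,
    S.alt₂.swap hew]
  module

theorem kron_of_stab (hX : Mid Q X) (hA : RadScalar B₂ X) {e : β → F} (he : e ≠ 0) {g : GL (α × β) F} (hgX : g ∈ X)
    (hg : ∀ v : α → F, ∃ v', (g : Matrix (α × β) (α × β) F) *ᵥ pure v e = pure v' e) : IsKron g := by
  haveI := S.nonempty_left
  haveI := S.nonempty_right
  have hgI := hX.isom hgX
  choose A₀ hA₀ using hg
  let A : (α → F) →ₗ[F] (α → F) :=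
    { toFun := A₀
      map_add' := fun a b => TensorMax.pureL_injective he (by
        change pure (A₀ (a + b)) e = pure (A₀ a + A₀ b) e
        rw [← hA₀, pure_add_left, mulVec_add, hA₀, hA₀, pure_add_left])
      map_smul' := fun c a => TensorMax.pureL_injective he (by
        change pure (A₀ (c • a)) e = pure (c • A₀ a) e
        rw [← hA₀, pure_smul_left, mulVec_smul, hA₀, pure_smul_left]) }
  have hAv : ∀ v, (g : Matrix (α × β) (α × β) F) *ᵥ pure v e = pure (A v) e := hA₀
  have hAinj : Function.Injective A := by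
    rw [← LinearMap.ker_eq_bot, LinearMap.ker_eq_bot']
    intro a ha
    by_contra ha0
    refine LinOne.GL_ne_zero_mulVec g (pure_ne_zero ha0 he) ?_
    rw [hAv, ha, pure_zero_left]
  let Ae : (α → F) ≃ₗ[F] (α → F) := LinearEquiv.ofInjectiveEndo A hAinj
  have hAe : ∀ v, A (Ae.symm v) = v := fun v => Ae.apply_symm_apply v
  have hginv : ∀ v, ((g⁻¹ : GL (α × β) F) : Matrix (α × β) (α × β) F) *ᵥ pure v e = pure (Ae.symm v) e := fun v => by
    conv_lhs => rw [← hAe v, ← hAv, mulVec_inv_self]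
  have hperp : ∀ x, cw B₂ e x = 0 → cw B₂ e ((g : Matrix (α × β) (α × β) F) *ᵥ x) = 0 := fun x hx =>
    S.alt₁.nd _ fun v => by
      rw [← S.polar_pure, ← hAe v, ← hAv, polar_isom hgI, S.polar_pure, hx, map_zero, LinearMap.zero_apply]
  -- the contractions of the images
  have hc : ∀ w, B₂ e w = 0 → ∀ z, B₂ z e = 0 → ∃ c : F, ∀ u,
      cw B₂ w ((g : Matrix (α × β) (α × β) F) *ᵥ pure u z) = c • A u := by
    intro w hw z hz
    obtain ⟨R, hR, -, hRy⟩ := S.exists_radW hX hw
    have hk : IsRad B₂ e (g⁻¹ * R * g) := by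
      refine ⟨fun v => ?_, fun x hx => ⟨Ae.symm (cw B₂ w ((g : Matrix (α × β) (α × β) F) *ᵥ x)), ?_⟩⟩
      · rw [mul_mulVec_GL, mul_mulVec_GL, hAv, hRy, cw_pure, cw_pure, S.alt₂.self, hw]
        simp only [zero_smul, pure_zero_left, add_zero]
        rw [← hAv, mulVec_inv_self]
      · rw [mul_mulVec_GL, mul_mulVec_GL, hRy, hperp x hx, pure_zero_left, add_zero, mulVec_add, mulVec_inv_self,
          hginv]
    obtain ⟨s, hs⟩ := kron_fix_left (hA e he _ (mul_mem (mul_mem (inv_mem hgX) hR) hgX) hk) he hk.fix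
    obtain ⟨u₁, hu₁⟩ := exists_ne (0 : α → F)
    obtain ⟨i, hi⟩ := Function.ne_iff.mp hu₁
    simp only [Pi.zero_apply] at hi
    obtain ⟨c', hc'⟩ := hk.perp (pure u₁ z) (by rw [cw_pure, hz, zero_smul])
    rw [hs] at hc'
    have hsz : s z = z + (c' i / u₁ i) • e := funext fun k => by
      have := congrFun hc' (i, k)
      simp only [Pi.add_apply, pure_apply] at this
      rw [Pi.add_apply, Pi.smul_apply, smul_eq_mul]
      field_simp
      linear_combination this
    refine ⟨c' i / u₁ i, fun u => ?_⟩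
    have h1 := hs u z
    rw [mul_mulVec_GL, mul_mulVec_GL, hRy, hperp _ (by rw [cw_pure, hz, zero_smul]), pure_zero_left, add_zero,
      mulVec_add, mulVec_inv_self, hginv, hsz, pure_add_right, add_right_inj, pure_smul_right, ← pure_smul_left] at h1
    rw [← hAe (cw B₂ w _), show Ae.symm (cw B₂ w ((g : Matrix (α × β) (α × β) F) *ᵥ pure u z)) =
      (c' i / u₁ i) • u from TensorMax.pureL_injective he h1, map_smul]
  -- the induced map on the second factor
  obtain ⟨u₀, hu₀⟩ := exists_ne (0 : α → F)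
  obtain ⟨v₀, hv₀⟩ := S.alt₁.exists_one (show -(A u₀) ≠ 0 from
    neg_ne_zero.mpr fun h => hu₀ (hAinj (h.trans (map_zero A).symm)))
  rw [map_neg, ← S.alt₁.skew] at hv₀
  let D : (β → F) →ₗ[F] (β → F) := ((cv B₁ v₀).comp (g : Matrix (α × β) (α × β) F).mulVecLin).comp (pureR u₀)
  have hD : ∀ z, D z = cv B₁ v₀ ((g : Matrix (α × β) (α × β) F) *ᵥ pure u₀ z) := fun z => rfl
  have hDe : D e = e := by rw [hD, hAv, cv_pure, hv₀, one_smul]
  have hmod : ∀ z, B₂ z e = 0 → ∀ u, ∃ c,
      (g : Matrix (α × β) (α × β) F) *ᵥ pure u z = pure (A u) (D z) + pure c e := by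
    intro z hz u
    obtain ⟨c, hc'⟩ := S.mem_line he (x := (g : Matrix (α × β) (α × β) F) *ᵥ pure u z - pure (A u) (D z))
      fun w hw => by
        obtain ⟨c, hcu⟩ := hc w hw z hz
        rw [map_sub, cw_pure, hcu, hD, S.cv_cw, hcu, map_smul, LinearMap.smul_apply, hv₀, smul_eq_mul, mul_one,
          sub_self]
    exact ⟨c, by rw [← hc', add_sub_cancel]⟩
  have hDperp : ∀ z, B₂ z e = 0 → B₂ (D z) e = 0 := fun z hz => by
    rw [hD, S.cv_cw, hperp _ (by rw [cw_pure, hz, zero_smul]), map_zero, LinearMap.zero_apply]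
  have hiso : ∀ z, B₂ z e = 0 → ∀ z', B₂ z' e = 0 → ∀ u u',
      B₁ (A u) (A u') * B₂ (D z) (D z') = B₁ u u' * B₂ z z' := by
    intro z hz z' hz' u u'
    obtain ⟨c, hc⟩ := hmod z hz u
    obtain ⟨c', hc'⟩ := hmod z' hz' u'
    rw [← S.polar u z u' z', ← polar_isom hgI (pure u z), hc, hc', QuadraticMap.polar_add_left,
      QuadraticMap.polar_add_right, QuadraticMap.polar_add_right, S.polar, S.polar, S.polar, S.polar, S.alt₂.self,
      hDperp z hz, S.alt₂.swap (hDperp z' hz')]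
    ring
  obtain ⟨w₁, w₂, h₁, h₂, h₁₂⟩ := S.alt₂.exists_pair_perp ![e] (by have := S.five_le; omega)
  set ν := B₂ (D w₁) (D w₂) with hν
  have hsim₁ : ∀ u u', ν * B₁ (A u) (A u') = B₁ u u' := fun u u' => by
    have := hiso w₁ (S.alt₂.swap (h₁ 0)) w₂ (S.alt₂.swap (h₂ 0)) u u'
    rw [h₁₂, mul_one] at this
    rw [hν, mul_comm, this]
  obtain ⟨u₂, hu₂⟩ := S.alt₁.exists_one hu₀
  have hν0 : ν ≠ 0 := fun h => by
    have := hsim₁ u₂ u₀
    rw [h, zero_mul, hu₂] at this
    exact zero_ne_one this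
  have hsim₂ : ∀ z, B₂ z e = 0 → ∀ z', B₂ z' e = 0 → B₂ (D z) (D z') = ν * B₂ z z' := fun z hz z' hz' => by
    have := hiso z hz z' hz' u₂ u₀
    rw [hu₂, one_mul] at this
    have h' := hsim₁ u₂ u₀
    rw [hu₂] at h'
    linear_combination ν * this - B₂ (D z) (D z') * h'
  have hDe' : ∀ z, B₂ (D z) e = ν * B₂ z e := by
    intro z
    rw [hD, S.cv_cw]
    have hcw : cw B₂ e ((g : Matrix (α × β) (α × β) F) *ᵥ pure u₀ z) = (ν * B₂ z e) • A u₀ :=
      sub_eq_zero.mp (S.alt₁.nd _ fun v => by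
        rw [map_sub, LinearMap.sub_apply, map_smul, LinearMap.smul_apply, smul_eq_mul, ← S.polar_pure, ← hAe v,
          ← hAv, polar_isom hgI, S.polar, ← hsim₁ u₀]
        ring)
    rw [hcw, map_smul, LinearMap.smul_apply, hv₀, smul_eq_mul, mul_one]
  have hDinj : Function.Injective D := by
    rw [← LinearMap.ker_eq_bot, LinearMap.ker_eq_bot']
    intro z hz
    have h0 : B₂ z e = 0 := by
      have := hDe' z
      rw [hz, map_zero, LinearMap.zero_apply, zero_eq_mul] at this
      exact this.resolve_left hν0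
    obtain ⟨c, hc⟩ := S.alt₂.mem_line he (z := z) fun w hw => by
      have := hsim₂ z h0 w (S.alt₂.swap hw)
      rw [hz, map_zero, LinearMap.zero_apply, zero_eq_mul] at this
      exact this.resolve_left hν0
    rw [hc, map_smul, hDe, smul_eq_zero] at hz
    rw [hc, hz.resolve_right he, zero_smul]
  obtain ⟨f, hf⟩ := S.alt₂.exists_one he
  let De : (β → F) ≃ₗ[F] (β → F) := LinearEquiv.ofInjectiveEndo D hDinj
  obtain ⟨F', hF'⟩ := S.alt₂.exists_rep ((-ν) • (B₂ f).comp De.symm.toLinearMap)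
  have hFD : ∀ y, B₂ (D y) F' = -ν * B₂ f y := fun y => by
    rw [hF', LinearMap.smul_apply, LinearMap.comp_apply, LinearEquiv.coe_coe, smul_eq_mul,
      show De.symm (D y) = y from De.symm_apply_apply y]
  let Bh : (β → F) →ₗ[F] (β → F) :=
    D.comp (LinearMap.id - ((B₂.flip e : (β → F) →ₗ[F] F).smulRight f)) + (B₂.flip e : (β → F) →ₗ[F] F).smulRight F'
  have hBh : ∀ z, Bh z = D (z - B₂ z e • f) + B₂ z e • F' := fun z => rfl
  have hsim : ∀ z z', B₂ (Bh z) (Bh z') = ν * B₂ z z' := by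
    intro z z'
    have h0 : ∀ y, B₂ (y - B₂ y e • f) e = 0 := fun y => by
      rw [map_sub, LinearMap.sub_apply, map_smul, LinearMap.smul_apply, hf, smul_eq_mul, mul_one, sub_self]
    rw [hBh, hBh]
    have e1 := hsim₂ _ (h0 z) _ (h0 z')
    set p := D (z - B₂ z e • f) with hp
    set p' := D (z' - B₂ z' e • f) with hp'
    simp only [map_add, LinearMap.add_apply, map_smul, LinearMap.smul_apply, smul_eq_mul, S.alt₂.self,
      S.alt₂.skew p' F']
    rw [e1, show B₂ p F' = _ from hFD _, show B₂ p' F' = _ from hFD _]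
    simp only [map_sub, map_smul, LinearMap.sub_apply, LinearMap.smul_apply, smul_eq_mul, S.alt₂.self,
      S.alt₂.skew f z]
    ring
  have hBhe : Bh e = e := by rw [hBh, S.alt₂.self, zero_smul, zero_smul, sub_zero, add_zero, hDe]
  have hBhinj : Function.Injective Bh := by
    rw [← LinearMap.ker_eq_bot, LinearMap.ker_eq_bot']
    intro z hz
    refine S.alt₂.nd z fun z' => ?_
    have := hsim z z'
    rw [hz, map_zero, LinearMap.zero_apply, zero_eq_mul] at this
    exact this.resolve_left hν0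
  have hdA : (LinearMap.toMatrix' A).det ≠ 0 := by
    rw [LinearMap.det_toMatrix']
    exact ((LinearMap.isUnit_iff_isUnit_det A).mp ((LinearMap.isUnit_iff_ker_eq_bot A).mpr
      (LinearMap.ker_eq_bot.mpr hAinj))).ne_zero
  have hdB : (LinearMap.toMatrix' Bh).det ≠ 0 := by
    rw [LinearMap.det_toMatrix']
    exact ((LinearMap.isUnit_iff_isUnit_det Bh).mp ((LinearMap.isUnit_iff_ker_eq_bot Bh).mpr
      (LinearMap.ker_eq_bot.mpr hBhinj))).ne_zero
  set h : GL (α × β) F := kronGL (LinearMap.toMatrix' A) (LinearMap.toMatrix' Bh) hdA hdB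
  have hhk : IsKron h := isKron_of_mat _ _ _ rfl
  have hact : ∀ v z, (h : Matrix (α × β) (α × β) F) *ᵥ pure v z = pure (A v) (Bh z) := fun v z => by
    rw [kronGL_val, kron_mulVec_pure, LinearMap.toMatrix'_mulVec, LinearMap.toMatrix'_mulVec]
  have hhI : h ∈ Cfsg.isometryGroup F (⇑Q) := by
    refine S.isom_of_pure (fun v w => by rw [hact]; exact S.pure0 _ _) fun v w v' w' => ?_
    rw [hact, hact, S.polar, hsim, ← hsim₁ v v']
    ring
  have hhinv : ∀ v, ((h⁻¹ : GL (α × β) F) : Matrix (α × β) (α × β) F) *ᵥ pure (A v) e = pure v e := fun v => by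
    conv_lhs => rw [← hBhe, ← hact, mulVec_inv_self]
  have hk : IsRad B₂ e (h⁻¹ * g) := by
    refine ⟨fun v => by rw [mul_mulVec_GL, hAv, hhinv], fun x hx => ?_⟩
    have : ∃ c, (g : Matrix (α × β) (α × β) F) *ᵥ x = (h : Matrix (α × β) (α × β) F) *ᵥ x + pure c e := by
      have hrow : ∀ i, ∃ c, (g : Matrix (α × β) (α × β) F) *ᵥ pure (Pi.single i 1) (fun k => x (i, k)) =
          (h : Matrix (α × β) (α × β) F) *ᵥ pure (Pi.single i 1) (fun k => x (i, k)) + pure c e := fun i => by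
        obtain ⟨c, hc⟩ := hmod _ (S.rows_perp hx i) (Pi.single i 1)
        refine ⟨c, ?_⟩
        rw [hc, hact, hBh, S.rows_perp hx i, zero_smul, zero_smul, sub_zero, add_zero]
      choose c hc using hrow
      refine ⟨∑ i, c i, ?_⟩
      rw [eq_sum_rows x, mulVec_sum, mulVec_sum, Finset.sum_congr rfl fun i _ => hc i, Finset.sum_add_distrib,
        show pure (∑ i, c i) e = ∑ i, pure (c i) e from map_sum (TensorMax.pureL e) c univ]
    obtain ⟨c, hc⟩ := this
    refine ⟨Ae.symm c, ?_⟩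
    rw [mul_mulVec_GL, hc, mulVec_add, mulVec_inv_self, add_right_inj]
    conv_lhs => rw [← hAe c, hhinv]
  have hkI : h⁻¹ * g ∈ Cfsg.isometryGroup F (⇑Q) := mul_mem (inv_mem hhI) hgI
  have hkΩ := S.stab_mem_omega he hkI hk.fix hk.perp
  have hhΩ : h ∈ Cfsg.Geo.omegaGL (⇑Q) := by
    have := mul_mem (hX.le hgX) (inv_mem hkΩ)
    rwa [_root_.mul_inv_rev, inv_inv, ← mul_assoc, mul_inv_cancel, one_mul] at this
  have := hhk.mul (hA e he _ (mul_mem (inv_mem (hX.kron h hhk hhΩ)) hgX) hk)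
  rwa [mul_inv_cancel_left] at this

end TS

end Cfsg.Lib.Classical.TensorQ
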