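import Cfsg.Agent.Classical.TensorQ.Rooted
import Cfsg.Agent.Classical.TensorQ.Stab
import Cfsg.Agent.Classical.TensorMax.Small

/-! If the radical elements of `X` are Kronecker products, so is all of `X`. -/

set_option autoImplicit false
set_option linter.unusedSectionVars false
set_option linter.unusedSimpArgs false
set_option linter.style.haveILetI false

namespace Cfsg.Lib.Classical.TensorQ

open Matrix Finset
open scoped Kronecker
open Cfsg.Lib.Classical.TensorMax (pure pure_apply pure_single pure_ne_zero pure_add_left pure_add_right pure_smul_left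
  pure_smul_right pure_zero_left pure_zero_right pureL pureR pureL_injective pureR_injective IsKron IsRoot
  kron_mulVec_pure isKron_of_mat)

universe u

variable {α β : Type} [Fintype α] [DecidableEq α] [Fintype β] [DecidableEq β] {F : Type u} [Field F]

/-- An injective map preserving pure tensors maps some `U ⊗ e` into some `U ⊗ w`. -/
theorem exists_image [Finite F] {G : Matrix (α × β) (α × β) F} (hinj : ∀ z, G *ᵥ z = 0 → z = 0)
    (himg : ∀ v w, ∃ v' w', G *ᵥ pure v w = pure v' w') (hα : 2 ≤ Fintype.card α)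
    (hlt : Fintype.card α < Fintype.card β) {e : β → F} (he : e ≠ 0) :
    ∃ w : β → F, w ≠ 0 ∧ ∀ v : α → F, ∃ v', G *ᵥ pure v e = pure v' w := by
  classical
  haveI : Nonempty α := Fintype.card_pos_iff.mp (by omega)
  haveI : Nonempty β := Fintype.card_pos_iff.mp (by omega)
  obtain ⟨i₀, i₁, hi⟩ := Fintype.exists_pair_of_one_lt_card (α := α) (by omega)
  let L : (α → F) →ₗ[F] (α × β → F) := G.mulVecLin.comp (pureL e)
  rcases TensorMax.pure_space L (fun v => himg v _) with ⟨w', hw'⟩ | ⟨v', hv'⟩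
  · refine ⟨w', ?_, fun v => hw' v⟩
    rintro rfl
    obtain ⟨v, hv⟩ := hw' (Pi.single i₀ 1)
    change G *ᵥ pure (Pi.single i₀ 1) e = pure v 0 at hv
    rw [pure_zero_right] at hv
    exact pure_ne_zero (by simp) he (hinj _ hv)
  exfalso
  let T : (β → F) →ₗ[F] (α × β → F) := G.mulVecLin.comp (pureR (Pi.single i₀ 1))
  have hTinj : ∀ z, T z = 0 → z = 0 := fun z hz =>
    pureR_injective (show (Pi.single i₀ (1 : F) : α → F) ≠ 0 by simp)
      ((hinj _ hz).trans (map_zero (pureR (β := β) (Pi.single i₀ (1 : F) : α → F))).symm)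
  obtain ⟨z₁, hz₁⟩ := hv' (Pi.single i₀ 1)
  change G *ᵥ pure (Pi.single i₀ 1) e = pure v' z₁ at hz₁
  have hz₁0 : z₁ ≠ 0 := by
    rintro rfl
    rw [pure_zero_right] at hz₁
    exact pure_ne_zero (by simp) he (hinj _ hz₁)
  rcases TensorMax.pure_space T (fun z => himg _ z) with ⟨w'', hw''⟩ | ⟨v'', hv''⟩
  · have hle : LinearMap.range T ≤ LinearMap.range (pureL (α := α) w'') := by
      rintro _ ⟨z, rfl⟩
      obtain ⟨v, hv⟩ := hw'' z
      exact ⟨v, hv.symm⟩
    have h1 := (Submodule.finrank_mono hle).trans (LinearMap.finrank_range_le _)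
    rw [LinearMap.finrank_range_of_inj (by
      rw [← LinearMap.ker_eq_bot, LinearMap.ker_eq_bot']; exact hTinj), Module.finrank_pi, Module.finrank_pi] at h1
    omega
  · obtain ⟨s, hs⟩ := hv'' e
    change G *ᵥ pure (Pi.single i₀ 1) e = pure v'' s at hs
    rw [hz₁] at hs
    obtain ⟨k, hk⟩ := Function.ne_iff.mp hz₁0
    simp only [Pi.zero_apply] at hk
    have hv''eq : v' = (s k / z₁ k) • v'' := funext fun a => by
      have := congrFun hs (a, k)
      rw [pure_apply, pure_apply] at this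
      rw [Pi.smul_apply, smul_eq_mul, div_mul_eq_mul_div, eq_div_iff hk, this, mul_comm]
    have hle : LinearMap.range T ≤ LinearMap.range (pureR (β := β) v'') := by
      rintro _ ⟨z, rfl⟩
      obtain ⟨w, hw⟩ := hv'' z
      exact ⟨w, hw.symm⟩
    have heq : LinearMap.range T = LinearMap.range (pureR (β := β) v'') := by
      refine Submodule.eq_of_le_of_finrank_le hle ((LinearMap.finrank_range_le _).trans ?_)
      rw [LinearMap.finrank_range_of_inj (by
        rw [← LinearMap.ker_eq_bot, LinearMap.ker_eq_bot']; exact hTinj)]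
    obtain ⟨z₂, hz₂⟩ := hv' (Pi.single i₁ 1)
    change G *ᵥ pure (Pi.single i₁ 1) e = pure v' z₂ at hz₂
    have hmem : pure v' z₂ ∈ LinearMap.range T := by
      rw [heq]
      exact ⟨(s k / z₁ k) • z₂, by
        show pure v'' _ = _
        rw [hv''eq, pure_smul_left, pure_smul_right]⟩
    obtain ⟨z, hz⟩ := hmem
    change G *ᵥ pure (Pi.single i₀ 1) z = pure v' z₂ at hz
    rw [← hz₂] at hz
    have hsame := sub_eq_zero.mp (hinj (pure (Pi.single i₀ 1) z - pure (Pi.single i₁ 1) e)
      (by rw [mulVec_sub, hz, sub_self]))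
    obtain ⟨k', hk'⟩ := Function.ne_iff.mp he
    simp only [Pi.zero_apply] at hk'
    have := congrFun hsame (i₁, k')
    rw [pure_apply, pure_apply, Pi.single_eq_of_ne (Ne.symm hi), zero_mul, Pi.single_eq_same, one_mul] at this
    exact hk' this.symm

variable [Finite F] {B₁ : LinearMap.BilinForm F (α → F)} {B₂ : LinearMap.BilinForm F (β → F)}
  {Q : QuadraticForm F (α × β → F)} {X : Subgroup (GL (α × β) F)}

/-- The Kronecker products in `X`. -/
def kronIn [Nonempty α] [Nonempty β] (X : Subgroup (GL (α × β) F)) : Subgroup (GL (α × β) F) where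
  carrier := {g | g ∈ X ∧ IsKron g}
  one_mem' := ⟨one_mem X, isKron_of_mat 1 1 1 (by rw [one_kronecker_one, Units.val_one])⟩
  mul_mem' {g h} hg hh := ⟨mul_mem hg.1 hh.1, hg.2.mul hh.2⟩
  inv_mem' {g} hg := ⟨inv_mem hg.1, hg.2.inv⟩

namespace TS

variable (S : TS B₁ B₂ Q)
include S

theorem kron_of_image (hX : Mid Q X) (hA : RadScalar B₂ X) {e e' : β → F} (he : e ≠ 0) (he' : e' ≠ 0)
    {g : GL (α × β) F} (hgX : g ∈ X) (hg : ∀ v : α → F, ∃ v', (g : Matrix (α × β) (α × β) F) *ᵥ pure v e = pure v' e') :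
    IsKron g := by
  haveI := S.nonempty_left
  haveI := S.nonempty_right
  have key : ∀ g ∈ X, (∀ v : α → F, ∃ v', (g : Matrix (α × β) (α × β) F) *ᵥ pure v e = pure v' e') → IsKron g := by
    refine S.alt₂.transitive (P := fun e' => ∀ g ∈ X,
      (∀ v : α → F, ∃ v', (g : Matrix (α × β) (α × β) F) *ᵥ pure v e = pure v' e') → IsKron g)
      (fun d t x hx g hg himg => ?_) he he' (fun g hg himg => S.kron_of_stab hX hA he hg himg)
    obtain ⟨s, hsk, hsΩ, hs⟩ := S.exists_tW d t
    have hk : IsKron (s⁻¹ * g) := by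
      refine hx _ (mul_mem (inv_mem (hX.kron _ hsk hsΩ)) hg) fun v => ?_
      obtain ⟨v', hv'⟩ := himg v
      exact ⟨v', by rw [mul_mulVec_GL, hv', ← hs, mulVec_inv_self]⟩
    have := hsk.mul hk
    rwa [mul_inv_cancel_left] at this
  exact key g hgX hg

theorem rooted (hX : Mid Q X) (hA : RadScalar B₂ X) {p : ℕ} [Fact p.Prime] [CharP F p] :
    haveI := S.nonempty_left
    haveI := S.nonempty_right
    Rooted p X (kronIn X) (fun g => g ∈ X ∧ IsRoot g) := by
  haveI := S.nonempty_left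
  haveI := S.nonempty_right
  refine ⟨fun g hg => hg.1, fun r hr => ⟨hr.1, hr.2.isKron⟩, fun r hr => hr.2.pow_char p,
    fun g hg r hr hm => ⟨hm.1, TensorMax.isRoot_conj S.lt hr.2 hm.2⟩, fun g hg r hr hr' => ⟨hg, ?_⟩⟩
  obtain ⟨w, φ, hw, hφ, -, hv⟩ := hr.2
  obtain ⟨w', φ', hw', -, -, hv'⟩ := hr'.2
  refine S.kron_of_image hX hA hw hw' hg fun v => ?_
  obtain ⟨k, hk⟩ := Function.ne_iff.mp hφ
  simp only [Pi.zero_apply] at hk
  have hz : φ ⬝ᵥ Pi.single k (φ k)⁻¹ = 1 := by rw [dotProduct_single, mul_inv_cancel₀ hk]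
  have hpre : TensorMax.rootMat w φ *ᵥ pure v (Pi.single k (φ k)⁻¹) = pure v w := by
    rw [TensorMax.rootMat_mulVec_pure, hz, one_smul]
  have he : g * r = (g * r * g⁻¹) * g := by group
  have hm := congrArg Units.val he
  rw [Units.val_mul, Units.val_mul, hv, hv', mul_add, mul_one, add_mul, one_mul] at hm
  refine ⟨fun i => ∑ t, φ' t *
    ((g : Matrix (α × β) (α × β) F) *ᵥ pure v (Pi.single k (φ k)⁻¹)) (i, t), ?_⟩
  rw [← hpre, mulVec_mulVec, add_left_cancel hm, ← mulVec_mulVec, TensorMax.rootMat_mulVec]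

/-- Every vector is fixed by a root in `X`. -/
theorem exists_root_fixing (hX : Mid Q X) (x : α × β → F) :
    ∃ r, (r ∈ X ∧ IsRoot r) ∧ (r : Matrix (α × β) (α × β) F) *ᵥ x = x := by
  haveI := S.nonempty_left
  haveI := S.nonempty_right
  let L : (β → F) →ₗ[F] (α → F) :=
    { toFun := fun w => cw B₂ w x
      map_add' := fun a b => funext fun i => by
        show B₂ (fun k => x (i, k)) (a + b) = B₂ (fun k => x (i, k)) a + B₂ (fun k => x (i, k)) b
        rw [map_add]
      map_smul' := fun c a => funext fun i => by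
        show B₂ (fun k => x (i, k)) (c • a) = c • B₂ (fun k => x (i, k)) a
        rw [map_smul] }
  obtain ⟨e, hex, he⟩ : ∃ e ∈ LinearMap.ker L, e ≠ 0 := by
    refine Submodule.exists_mem_ne_zero_of_ne_bot ?_
    apply LinearMap.ker_ne_bot_of_finrank_lt
    rw [Module.finrank_pi, Module.finrank_pi]
    exact S.lt
  obtain ⟨r, hk, ho, hr⟩ := S.exists_tW e 1
  have h0 : rowOf B₂ e ⬝ᵥ e = 0 := by rw [rowOf_dot, S.alt₂.self]
  have hre : r = TensorMax.rootGL e (rowOf B₂ e) h0 := ext_pure_GL fun v z => by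
    rw [hr, TensorMax.rootGL_val, add_mulVec, one_mulVec, TensorMax.rootMat_mulVec_pure, rowOf_dot, one_mul,
      ← pure_add_right]
  have hne : rowOf B₂ e ≠ 0 := fun h => by
    obtain ⟨f, hf⟩ := S.alt₂.exists_one he
    rw [← rowOf_dot, h, zero_dotProduct] at hf
    exact zero_ne_one hf
  refine ⟨r, ⟨hX.kron r hk ho, hre ▸ TensorMax.isRoot_rootGL he hne h0⟩, ?_⟩
  have := DFunLike.congr_fun (ext_pure (L := (r : Matrix (α × β) (α × β) F).mulVecLin)
    (L' := LinearMap.id + (pureL e).comp (cw B₂ e)) fun v z => by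
      show _ *ᵥ pure v z = pure v z + pure (cw B₂ e (pure v z)) e
      rw [hr, cw_pure, pure_smul_left, one_mul, pure_add_right, pure_smul_right]) x
  have hx0 : cw B₂ e x = 0 := hex
  simpa [hx0, TensorMax.pureL, pure_zero_left] using this

theorem kron_of_radScalar (hX : Mid Q X) (hA : RadScalar B₂ X) {g : GL (α × β) F} (hg : g ∈ X) : IsKron g := by
  classical
  haveI := S.nonempty_left
  haveI := S.nonempty_right
  let p := ringChar F
  haveI : Fact p.Prime := ⟨CharP.char_is_prime F p⟩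
  have hR := S.rooted (p := p) hX hA
  have himg : ∀ v w, ∃ v' w', (g : Matrix (α × β) (α × β) F) *ᵥ pure v w = pure v' w' := by
    intro v w
    obtain ⟨r, hr, hrfix⟩ := S.exists_root_fixing hX (pure v w)
    set x := (g : Matrix (α × β) (α × β) F) *ᵥ pure v w with hx
    obtain ⟨r₂, hr₂, hr₂fix⟩ := S.exists_root_fixing hX x
    let St : Subgroup (GL (α × β) F) :=
      { carrier := {h | h ∈ X ∧ (h : Matrix (α × β) (α × β) F) *ᵥ x = x}
        one_mem' := ⟨one_mem X, by rw [Units.val_one, one_mulVec]⟩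
        mul_mem' := fun {a b} ha hb => ⟨mul_mem ha.1 hb.1, by rw [mul_mulVec_GL, hb.2, ha.2]⟩
        inv_mem' := fun {a} ha => ⟨inv_mem ha.1, by conv_lhs => rw [← ha.2, mulVec_inv_self]⟩ }
    obtain ⟨c, hc, hcg⟩ := hR.exists_mul_mem (S := St) (fun h hh => hh.1) hg hr hr₂
      ⟨mul_mem (mul_mem hg hr.1) (inv_mem hg), by rw [hx, mul_mulVec_GL, mul_mulVec_GL, mulVec_inv_self, hrfix]⟩
      ⟨hr₂.1, hr₂fix⟩
    obtain ⟨v', w', e⟩ := hcg.2.mulVec_pure v w
    refine ⟨v', w', ?_⟩
    rw [← hc.2, hx, ← mul_mulVec_GL, e]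
  obtain ⟨j⟩ := ‹Nonempty β›
  have he : (Pi.single j (1 : F) : β → F) ≠ 0 := by simp
  obtain ⟨w, hw, hgw⟩ := exists_image (G := (g : Matrix (α × β) (α × β) F)) (fun z hz => by
    by_contra h
    exact LinOne.GL_ne_zero_mulVec g h hz) himg S.two_le S.lt he
  exact S.kron_of_image hX hA he hw hg hgw

end TS

end Cfsg.Lib.Classical.TensorQ
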