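import Cfsg.Agent.Classical.TensorQ.Gen
import Cfsg.Agent.Classical.TensorQ.Scalar
import Cfsg.Agent.Classical.TensorMax.Main

/-! The stabiliser of a symplectic tensor decomposition is maximal in `Ω`. -/

set_option autoImplicit false
set_option linter.unusedSectionVars false
set_option linter.unusedSimpArgs false
set_option linter.style.haveILetI false

namespace Cfsg.Lib.Classical.TensorQ

open Matrix Finset
open scoped Kronecker
open Cfsg.Lib.Classical.TensorMax (pure pure_apply pure_single pure_ne_zero pure_add_left pure_add_right pure_smul_left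
  pure_smul_right pure_zero_left pure_zero_right pureL pureR IsKron)

universe u

variable {α β : Type} [Fintype α] [DecidableEq α] [Fintype β] [DecidableEq β] {F : Type u} [Field F] [Finite F]
  {B₁ : LinearMap.BilinForm F (α → F)} {B₂ : LinearMap.BilinForm F (β → F)} {Q : QuadraticForm F (α × β → F)}

/-- The Kronecker products in `Ω`. -/
def kronOmega (Q : QuadraticForm F (α × β → F)) [Nonempty α] [Nonempty β] : Subgroup (GL (α × β) F) :=
  kronIn (Cfsg.Geo.omegaGL (⇑Q))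

theorem TS.isMaximalIn [Nonempty α] [Nonempty β] (S : TS B₁ B₂ Q) :
    Cfsg.Geo.IsMaximalIn (Cfsg.Geo.omegaGL (⇑Q)) (kronOmega Q) := by
  refine ⟨lt_of_le_of_ne (fun g hg => hg.1) fun h => ?_, fun M h₁ h₂ => ?_⟩
  · obtain ⟨v, hv⟩ := exists_ne (0 : α → F)
    obtain ⟨d, hd⟩ := S.alt₁.exists_one hv
    obtain ⟨k₀⟩ := ‹Nonempty β›
    have he : (Pi.single k₀ (1 : F) : β → F) ≠ 0 := by simp
    set e : β → F := Pi.single k₀ 1
    obtain ⟨e', f, he', hf, hpair⟩ := S.alt₂.exists_pair_perp ![e] (by have := S.five_le; omega)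
    have hee' : B₂ e e' = 0 := he' 0
    have hef : B₂ e f = 0 := hf 0
    have huz : QuadraticMap.polar (⇑Q) (pure v e) (pure v e') = 0 := by rw [S.polar, hee', mul_zero]
    have hg : ((Refl.siegelG Q (S.pure0 v e) huz : Cfsg.isometryGroup F (⇑Q)) : GL (α × β) F) ∈ kronOmega Q := by
      rw [h]
      exact mulVec_omega _ (Refl.siegelG_mem_omega Q S.nondeg S.card_ge (S.pure0 v e) huz)
    obtain ⟨v', w', e₀⟩ := hg.2.mulVec_pure d f
    change _ *ᵥ pure d f = _ at e₀
    rw [show (((Refl.siegelG Q (S.pure0 v e) huz : Cfsg.isometryGroup F (⇑Q)) : GL (α × β) F) : Matrix (α × β) (α × β) F) *ᵥ pure d f = _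
      from Refl.mat_siegelG Q (S.pure0 v e) huz (pure d f), Refl.siegelMap, S.polar, S.polar, hef, S.pure0,
      S.alt₁.skew d v, hd, hpair] at e₀
    simp only [mul_zero, zero_smul, add_zero, sub_zero] at e₀
    rw [← pure_smul_left] at e₀
    have hd0 : d ≠ 0 := fun h0 => by rw [h0, map_zero, LinearMap.zero_apply] at hd; exact zero_ne_one hd
    have hf0 : f ≠ 0 := fun h0 => by rw [h0, map_zero] at hpair; exact zero_ne_one hpair
    rcases TensorMax.shared_of_sum hd0 hf0 e₀ with ⟨c, hc⟩ | ⟨c, hc⟩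
    · have := congrArg (B₁ v) hc
      simp [S.alt₁.self, S.alt₁.skew d v, hd] at this
      subst this
      simp [hv] at hc
    · have h1 := congrArg (fun z => B₂ z e') hc
      simp only [map_smul, LinearMap.smul_apply, smul_eq_mul, hee', S.alt₂.skew e' f, hpair] at h1
      have hc0 : c = 0 := by linear_combination h1
      rw [hc0, zero_smul] at hc
      exact he hc
  · have hX : Mid Q M := ⟨h₂, fun g hk ho => h₁ ⟨ho, hk⟩⟩
    by_cases hA : RadScalar B₂ M
    · exact Or.inl (le_antisymm (fun g hg => ⟨h₂ hg, S.kron_of_radScalar hX hA hg⟩) h₁)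
    · exact Or.inr (le_antisymm h₂ (S.omega_le hX hA))

theorem omegaGL_eq {ι : Type} [Fintype ι] [DecidableEq ι] (Q : (ι → F) → F) :
    Cfsg.Geo.omegaGL Q = ⁅Cfsg.isometryGroup F Q, Cfsg.isometryGroup F Q⁆ :=
  Subgroup.map_subtype_commutator _

theorem isMaximalIn_symp {n n₁ n₂ : ℕ} (hn13 : 13 ≤ n ∨ (12 ≤ n ∧ 5 ≤ n₂)) {Q : (Fin n → F) → F}
    (hQ : Cfsg.Geo.IsNondegenerateQuadraticForm Q) (h12 : n₁ < n₂) (hex : n₁ = 2 → ∃ c : F, c ≠ 0 ∧ c ≠ 1)
    (e : Fin n ≃ Fin n₁ × Fin n₂) (P : GL (Fin n) F) (f₁ : (Fin n₁ → F) → (Fin n₁ → F) → F)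
    (f₂ : (Fin n₂ → F) → (Fin n₂ → F) → F) (hf₁ : Cfsg.Geo.IsSymplecticForm f₁) (hf₂ : Cfsg.Geo.IsSymplecticForm f₂)
    (hT : Cfsg.Geo.IsTensorFormStructure id (QuadraticMap.polar Q) f₁ f₂ e P)
    (hpure : ∀ (x₁ : Fin n₁ → F) (x₂ : Fin n₂ → F),
      Q ((P : Matrix (Fin n) (Fin n) F) *ᵥ ((fun a : Fin n₁ × Fin n₂ => x₁ a.1 * x₂ a.2) ∘ e)) = 0) :
    Cfsg.Geo.IsMaximalIn (Cfsg.Geo.omegaGL Q)
      (Cfsg.Geo.tensorProductSubgroup n₁ n₂ e P ⊓ Cfsg.Geo.omegaGL Q) := by
  classical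
  obtain ⟨Q₀, rfl, hQ₀⟩ := Refl.exists_form hQ
  have hn : 12 ≤ n := by omega
  obtain ⟨c, hc, hT⟩ := hT
  have hcard : n = n₁ * n₂ := by simpa using Fintype.card_congr e
  haveI : Nonempty (Fin n₁) := Fin.pos_iff_nonempty.mp (Nat.pos_of_ne_zero fun h => by
    rw [h, zero_mul] at hcard; omega)
  haveI : Nonempty (Fin n₂) := Fin.pos_iff_nonempty.mp (by omega)
  let L : (Fin n₁ × Fin n₂ → F) →ₗ[F] (Fin n → F) :=
    (P : Matrix (Fin n) (Fin n) F).mulVecLin.comp (LinearMap.funLeft F F e)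
  have hL : ∀ x, L x = (P : Matrix (Fin n) (Fin n) F) *ᵥ (x ∘ e) := fun x => rfl
  let Q' : QuadraticForm F (Fin n₁ × Fin n₂ → F) := Q₀.comp L
  have hQ' : ∀ x, Q' x = Q₀ ((P : Matrix (Fin n) (Fin n) F) *ᵥ (x ∘ e)) := fun x => rfl
  have hpol : ∀ x y, QuadraticMap.polar (⇑Q') x y =
      QuadraticMap.polar (⇑Q₀) ((P : Matrix (Fin n) (Fin n) F) *ᵥ (x ∘ e)) ((P : Matrix (Fin n) (Fin n) F) *ᵥ (y ∘ e)) :=
    fun x y => by
      simp only [QuadraticMap.polar, hQ']
      rw [← mulVec_add, show (x + y) ∘ (e : Fin n → Fin n₁ × Fin n₂) = x ∘ e + y ∘ e from rfl]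
  have hsurj : ∀ y : Fin n → F, ∃ x, L x = y := fun y =>
    ⟨(((P⁻¹ : GL (Fin n) F) : Matrix (Fin n) (Fin n) F) *ᵥ y) ∘ e.symm, by
      rw [hL, Function.comp_assoc, Equiv.symm_comp_self, Function.comp_id, mulVec_mulVec, ← Units.val_mul,
        mul_inv_cancel, Units.val_one, one_mulVec]⟩
  have hexp : ∀ {k : ℕ} (f : (Fin k → F) → (Fin k → F) → F), Cfsg.Geo.IsBilinearForm f → ∀ v w,
      Matrix.toLinearMap₂' F (Cfsg.Geo.gramMatrix f) v w = f v w := by
    intro k f hf v w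
    let B : LinearMap.BilinForm F (Fin k → F) := LinearMap.mk₂ F f hf.add_left hf.smul_left hf.add_right hf.smul_right
    have : B = Matrix.toLinearMap₂' F (Cfsg.Geo.gramMatrix f) :=
      LinearMap.ext_basis (Pi.basisFun F (Fin k)) (Pi.basisFun F (Fin k)) fun i j => by
        rw [Pi.basisFun_apply, Pi.basisFun_apply, Matrix.toLinearMap₂'_apply']
        simp [B, Cfsg.Geo.gramMatrix]
    rw [← this]
    rfl
  have halt : ∀ {k : ℕ} (f : (Fin k → F) → (Fin k → F) → F), Cfsg.Geo.IsSymplecticForm f → ∀ s : F, s ≠ 0 →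
      Alt (s • Matrix.toLinearMap₂' F (Cfsg.Geo.gramMatrix f)) := by
    intro k f hf s hs
    constructor
    · intro v
      rw [LinearMap.smul_apply, LinearMap.smul_apply, hexp f hf.bilinear, hf.alternating, smul_zero]
    · intro v hv
      by_contra h0
      obtain ⟨-, x, hx⟩ := hf.nondegenerate v h0
      have := hv x
      rw [LinearMap.smul_apply, LinearMap.smul_apply, hexp f hf.bilinear, smul_eq_zero] at this
      exact hx (this.resolve_left hs)
  set B₁ : LinearMap.BilinForm F (Fin n₁ → F) := c • Matrix.toLinearMap₂' F (Cfsg.Geo.gramMatrix f₁) with hB₁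
  set B₂ : LinearMap.BilinForm F (Fin n₂ → F) := (1 : F) • Matrix.toLinearMap₂' F (Cfsg.Geo.gramMatrix f₂) with hB₂
  have hA₁ : Alt B₁ := halt f₁ hf₁ c hc
  have hA₂ : Alt B₂ := halt f₂ hf₂ 1 one_ne_zero
  have h1 : 2 ≤ n₁ := by
    by_contra h
    have h1 : n₁ = 1 := by
      rcases Nat.eq_zero_or_pos n₁ with h0 | h0
      · rw [h0, zero_mul] at hcard; omega
      · omega
    subst h1
    have hv : (fun _ => 1 : Fin 1 → F) ≠ 0 := fun h => one_ne_zero (congrFun h 0)
    obtain ⟨w, hw⟩ := hA₁.exists_one hv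
    rw [show w = w 0 • (fun _ => 1 : Fin 1 → F) from funext fun i => by
      rw [Fin.fin_one_eq_zero i, Pi.smul_apply, smul_eq_mul, mul_one], map_smul, LinearMap.smul_apply, hA₁.self,
      smul_zero] at hw
    exact zero_ne_one hw
  have h5 : 5 ≤ n₂ := by
    by_contra h
    have : n₁ * n₂ ≤ 3 * 4 := Nat.mul_le_mul (by omega) (by omega)
    omega
  have S : TS B₁ B₂ Q' := by
    refine ⟨fun v w v' w' => ?_, fun v w => hpure v w, hA₁, hA₂, ?_, by rw [Fintype.card_fin]; exact h1,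
      by rw [Fintype.card_fin, Fintype.card_fin]; exact h12, by rw [Fintype.card_fin]; exact h5,
      by rw [Fintype.card_fin]; exact hex⟩
    · rw [hpol, hT, hB₁, hB₂]
      simp only [LinearMap.smul_apply, Matrix.toLinearMap₂'_apply', smul_eq_mul, one_mul, Cfsg.Geo.formOfGram,
        id_eq, dotProduct, mulVec, Finset.mul_sum, Finset.sum_mul, Fintype.sum_prod_type, kroneckerMap_apply,
        pure_apply]
      conv_rhs =>
        enter [2, b]
        rw [Finset.sum_comm]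
      conv_rhs => rw [Finset.sum_comm]
      conv_rhs =>
        enter [2, a, 2, b]
        rw [Finset.sum_comm]
      refine Finset.sum_congr rfl fun a _ => Finset.sum_congr rfl fun b _ => Finset.sum_congr rfl fun a' _ =>
        Finset.sum_congr rfl fun b' _ => ?_
      ring
    · constructor
      · intro x hx
        have h0 : L x = 0 := hQ₀.1 _ fun y => by
          obtain ⟨y', rfl⟩ := hsurj y
          exact (hpol x y').symm.trans (hx y')
        have h2 := congrArg (fun z => ((P⁻¹ : GL (Fin n) F) : Matrix (Fin n) (Fin n) F) *ᵥ z) h0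
        simp only [hL, mulVec_mulVec, ← Units.val_mul, inv_mul_cancel, Units.val_one, one_mulVec, mulVec_zero] at h2
        funext a
        simpa using congrFun h2 (e.symm a)
      · intro x hx
        have h0 : L x = 0 := hQ₀.2 _ fun y => by
          obtain ⟨y', rfl⟩ := hsurj y
          exact (hpol y' x).symm.trans (hx y')
        have h2 := congrArg (fun z => ((P⁻¹ : GL (Fin n) F) : Matrix (Fin n) (Fin n) F) *ᵥ z) h0
        simp only [hL, mulVec_mulVec, ← Units.val_mul, inv_mul_cancel, Units.val_one, one_mulVec, mulVec_zero] at h2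
        funext a
        simpa using congrFun h2 (e.symm a)
  let φ : GL (Fin n₁ × Fin n₂) F ≃* GL (Fin n) F := (Cfsg.Geo.glReindex e.symm).trans (MulAut.conj P)
  have hact : ∀ g x, ((φ g : GL (Fin n) F) : Matrix (Fin n) (Fin n) F) *ᵥ L x =
      L ((g : Matrix (Fin n₁ × Fin n₂) (Fin n₁ × Fin n₂) F) *ᵥ x) := by
    intro g x
    show ((P * Cfsg.Geo.glReindex e.symm g * P⁻¹ : GL (Fin n) F) : Matrix (Fin n) (Fin n) F) *ᵥ _ = _
    rw [hL, hL, mulVec_mulVec, ← Units.val_mul, inv_mul_cancel_right, Units.val_mul, ← mulVec_mulVec]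
    congr 1
    show ((g : Matrix (Fin n₁ × Fin n₂) (Fin n₁ × Fin n₂) F).submatrix e e) *ᵥ (x ∘ e) = _
    rw [Matrix.submatrix_mulVec_equiv, Function.comp_assoc, Equiv.self_comp_symm, Function.comp_id]
  have hI : (Cfsg.isometryGroup F (⇑Q')).map φ.toMonoidHom = Cfsg.isometryGroup F (⇑Q₀) := by
    ext g
    rw [Subgroup.mem_map_equiv, Refl.mem_iff, Refl.mem_iff]
    constructor
    · intro h y
      obtain ⟨x, rfl⟩ := hsurj y
      rw [← φ.apply_symm_apply g, hact]
      exact h x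
    · intro h x
      show Q₀ (L _) = Q₀ (L x)
      rw [← hact, φ.apply_symm_apply, h]
  have hΩ : (Cfsg.Geo.omegaGL (⇑Q')).map φ.toMonoidHom = Cfsg.Geo.omegaGL (⇑Q₀) := by
    rw [omegaGL_eq, omegaGL_eq, Subgroup.map_commutator, hI]
  have hK : (kronOmega Q').map φ.toMonoidHom =
      Cfsg.Geo.tensorProductSubgroup n₁ n₂ e P ⊓ Cfsg.Geo.omegaGL (⇑Q₀) := by
    have e0 : kronOmega Q' = Cfsg.Geo.kroneckerSubgroup n₁ n₂ F ⊓ Cfsg.Geo.omegaGL (⇑Q') :=
      Subgroup.ext fun g => ⟨fun h => ⟨h.2, h.1⟩, fun h => ⟨h.2, h.1⟩⟩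
    rw [e0, Subgroup.map_inf _ _ _ φ.injective, hΩ, Cfsg.Geo.tensorProductSubgroup, Subgroup.map_map]
    rfl
  have := TensorMax.isMaximalIn_map φ S.isMaximalIn
  rwa [hΩ, hK] at this

end Cfsg.Lib.Classical.TensorQ
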