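import Cfsg.Agent.Classical.TensorQ.Setup

/-! Transvections of the two factors and radical elements lie in `Ω`. -/

set_option autoImplicit false
set_option linter.unusedSectionVars false
set_option linter.unusedSimpArgs false

namespace Cfsg.Lib.Classical.TensorQ

open Matrix Finset
open scoped Kronecker
open Cfsg.Lib.Classical.TensorMax (pure pure_apply pure_single pure_ne_zero pure_add_left pure_add_right pure_smul_left
  pure_smul_right pure_zero_left pure_zero_right pureL pureR IsKron kronGL kronGL_val kron_mulVec_pure isKron_of_mat)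

universe u

variable {α β : Type} [Fintype α] [DecidableEq α] [Fintype β] [DecidableEq β] {F : Type u} [Field F] [Finite F]
  {B₁ : LinearMap.BilinForm F (α → F)} {B₂ : LinearMap.BilinForm F (β → F)} {Q : QuadraticForm F (α × β → F)}

theorem mulVec_omega {ι : Type} [Fintype ι] [DecidableEq ι] {Q : QuadraticForm F (ι → F)}
    (g : Cfsg.isometryGroup F (⇑Q)) (hg : g ∈ Cfsg.Omega F (⇑Q)) : (g : GL ι F) ∈ Cfsg.Geo.omegaGL (⇑Q) :=
  (Refl.mem_omegaGL Q _).mpr ⟨g, hg, rfl⟩

/-- An isometry fixing a totally singular family with a dual family and acting trivially on the layers is in `Ω`. -/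
theorem mem_omega_of_layers {ι : Type} [Fintype ι] [DecidableEq ι] {Q : QuadraticForm F (ι → F)}
    (hQ : (QuadraticMap.polarBilin Q).Nondegenerate) (hn : 5 ≤ Fintype.card ι) {κ : Type} [Fintype κ] [DecidableEq κ]
    (u v : κ → ι → F) (hu : ∀ i, Q (u i) = 0) (huu : ∀ i j, QuadraticMap.polar (⇑Q) (u i) (u j) = 0)
    (huv : ∀ i j, QuadraticMap.polar (⇑Q) (u i) (v j) = if i = j then 1 else 0) :
    ∀ (k : GL ι F), k ∈ Cfsg.isometryGroup F (⇑Q) → (∀ i, (k : Matrix ι ι F) *ᵥ u i = u i) →
      (∀ x, (∀ i, QuadraticMap.polar (⇑Q) (u i) x = 0) →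
        (k : Matrix ι ι F) *ᵥ x - x ∈ Submodule.span F (Set.range u)) → k ∈ Cfsg.Geo.omegaGL (⇑Q) := by
  suffices key : ∀ s : Finset κ, ∀ (k : GL ι F), k ∈ Cfsg.isometryGroup F (⇑Q) →
      (∀ i, (k : Matrix ι ι F) *ᵥ u i = u i) → (∀ x, (∀ i, QuadraticMap.polar (⇑Q) (u i) x = 0) →
        (k : Matrix ι ι F) *ᵥ x - x ∈ Submodule.span F (Set.range u)) →
      (∀ i ∉ s, (k : Matrix ι ι F) *ᵥ v i = v i) → k ∈ Cfsg.Geo.omegaGL (⇑Q) by
    exact fun k h1 h2 h3 => key univ k h1 h2 h3 fun i hi => absurd (mem_univ i) hi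
  intro s
  induction s using Finset.induction with
  | empty =>
    intro k hk hfix hperp hv
    have hp : ∀ x y, QuadraticMap.polar (⇑Q) ((k : Matrix ι ι F) *ᵥ x) ((k : Matrix ι ι F) *ᵥ y) =
        QuadraticMap.polar (⇑Q) x y := fun x y => by
      simp only [QuadraticMap.polar, ← mulVec_add, (Refl.mem_iff Q).mp hk]
    have hone : k = 1 := by
      refine Units.ext (Matrix.toLin'.injective (LinearMap.ext fun x => ?_))
      rw [Matrix.toLin'_apply, Matrix.toLin'_apply, Units.val_one, one_mulVec]
      set x' := x - ∑ j, QuadraticMap.polar (⇑Q) (u j) x • v j with hx'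
      have hx'0 : ∀ i, QuadraticMap.polar (⇑Q) (u i) x' = 0 := by
        intro i
        show QuadraticMap.polarBilin Q (u i) x' = 0
        rw [hx', map_sub, map_sum, Finset.sum_eq_single i]
        · simp only [map_smul, QuadraticMap.polarBilin_apply_apply, huv, if_pos, smul_eq_mul, mul_one, sub_self]
        · intro j _ hj
          rw [map_smul, QuadraticMap.polarBilin_apply_apply, huv, if_neg (Ne.symm hj), smul_zero]
        · exact fun h => absurd (mem_univ i) h
      obtain ⟨c, hc⟩ := (Submodule.mem_span_range_iff_exists_fun F).mp (hperp x' hx'0)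
      have hc0 : ∀ j, c j = 0 := by
        intro j
        have h1 : QuadraticMap.polarBilin Q ((k : Matrix ι ι F) *ᵥ x' - x') (v j) = 0 := by
          rw [map_sub, LinearMap.sub_apply, QuadraticMap.polarBilin_apply_apply,
            QuadraticMap.polarBilin_apply_apply]
          conv_lhs => arg 1; rw [← hv j (Finset.notMem_empty j)]
          rw [hp, sub_self]
        rw [← hc, map_sum, LinearMap.sum_apply, Finset.sum_eq_single j] at h1
        · simpa [huv] using h1
        · intro i _ hi
          simp [huv, hi]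
        · exact fun h => absurd (mem_univ j) h
      have hx'fix : (k : Matrix ι ι F) *ᵥ x' = x' := by
        rw [← sub_eq_zero, ← hc]
        exact Finset.sum_eq_zero fun j _ => by rw [hc0, zero_smul]
      rw [show x = x' + ∑ j, QuadraticMap.polar (⇑Q) (u j) x • v j by rw [hx', sub_add_cancel], mulVec_add, hx'fix,
        mulVec_sum]
      refine congrArg _ (Finset.sum_congr rfl fun j _ => ?_)
      rw [mulVec_smul, hv j (Finset.notMem_empty j)]
    rw [hone]
    exact one_mem _
  | insert j s hj ih =>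
    intro k hk hfix hperp hv
    have hp : ∀ x y, QuadraticMap.polar (⇑Q) ((k : Matrix ι ι F) *ᵥ x) ((k : Matrix ι ι F) *ᵥ y) =
        QuadraticMap.polar (⇑Q) x y := fun x y => by
      simp only [QuadraticMap.polar, ← mulVec_add, (Refl.mem_iff Q).mp hk]
    set z := (k : Matrix ι ι F) *ᵥ v j - v j with hz
    have hzu : ∀ i, QuadraticMap.polar (⇑Q) (u i) z = 0 := fun i => by
      rw [hz, QuadraticMap.polar_sub_right]
      conv_lhs => arg 1; arg 2; rw [← hfix i]
      rw [hp, sub_self]
    have huz : QuadraticMap.polar (⇑Q) (u j) (-z) = 0 := by rw [QuadraticMap.polar_neg_right, hzu, neg_zero]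
    set S := Refl.siegelG Q (hu j) huz
    have hS : ∀ x, ((S : GL ι F) : Matrix ι ι F) *ᵥ x = Refl.siegelMap Q (u j) (-z) x := fun x =>
      Refl.mat_siegelG Q (hu j) huz x
    have hSO : (S : GL ι F) ∈ Cfsg.Geo.omegaGL (⇑Q) :=
      mulVec_omega S (Refl.siegelG_mem_omega Q hQ hn (hu j) huz)
    have hm : ∀ x, (((S : GL ι F) * k : GL ι F) : Matrix ι ι F) *ᵥ x =
        Refl.siegelMap Q (u j) (-z) ((k : Matrix ι ι F) *ᵥ x) := fun x => by
      rw [Units.val_mul, ← mulVec_mulVec, hS]
    have hkS : ((S : GL ι F) * k) ∈ Cfsg.Geo.omegaGL (⇑Q) := by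
      refine ih _ (mul_mem S.2 hk) (fun i => ?_) (fun x hx => ?_) (fun i hi => ?_)
      · rw [hm, hfix, Refl.siegelMap, huu, QuadraticMap.polar_neg_left, QuadraticMap.polar_comm (⇑Q) z, hzu]
        simp
      · have h1 : QuadraticMap.polar (⇑Q) (u j) ((k : Matrix ι ι F) *ᵥ x) = 0 := by
          conv_lhs => arg 2; rw [← hfix j]
          rw [hp, hx]
        rw [hm, Refl.siegelMap, h1]
        simp only [zero_smul, add_zero, mul_zero, sub_zero, neg_neg]
        rw [add_sub_right_comm]
        exact add_mem (hperp x hx) (Submodule.smul_mem _ _ (Submodule.subset_span ⟨j, rfl⟩))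
      · by_cases hij : i = j
        · subst hij
          have hQz : Q z + QuadraticMap.polar (⇑Q) (v i) z = 0 := by
            have h1 := (Refl.mem_iff Q).mp hk (v i)
            rw [show (k : Matrix ι ι F) *ᵥ v i = v i + z by rw [hz, add_sub_cancel], QuadraticMap.map_add (f := Q)] at h1
            linear_combination h1
          have h1 : QuadraticMap.polar (⇑Q) (u i) ((k : Matrix ι ι F) *ᵥ v i) = 1 := by
            conv_lhs => arg 2; rw [← hfix i]
            rw [hp, huv, if_pos rfl]
          rw [hm, Refl.siegelMap, h1, one_smul, QuadraticMap.polar_neg_left, QuadraticMap.map_neg, mul_one, neg_neg,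
            show (k : Matrix ι ι F) *ᵥ v i = v i + z by rw [hz, add_sub_cancel], QuadraticMap.polar_add_right,
            QuadraticMap.polar_comm (⇑Q) z (v i), QuadraticMap.polar_self, nsmul_eq_mul]
          rw [show QuadraticMap.polar (⇑Q) (v i) z + ((2 : ℕ) : F) * Q z - Q z = 0 by push_cast; linear_combination hQz,
            zero_smul, add_zero, add_neg_cancel_right]
        · have hki := hv i (fun h => hi ((Finset.mem_insert.mp h).resolve_left hij))
          have h2 : QuadraticMap.polar (⇑Q) z (v i) = 0 := by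
            rw [hz, QuadraticMap.polar_sub_left]
            conv_lhs => arg 1; arg 3; rw [← hki]
            rw [hp, sub_self]
          rw [hm, hki, Refl.siegelMap, huv, if_neg (Ne.symm hij), QuadraticMap.polar_neg_left, h2]
          simp
    have := mul_mem (inv_mem hSO) hkS
    rwa [inv_mul_cancel_left] at this

/-- The functional `z ↦ B₂(z, e)` as a row vector. -/
def rowOf {γ : Type} [DecidableEq γ] (B : LinearMap.BilinForm F (γ → F)) (e : γ → F) : γ → F :=
  fun k => B (Pi.single k 1) e

theorem rowOf_dot {γ : Type} [Fintype γ] [DecidableEq γ] (B : LinearMap.BilinForm F (γ → F)) (e z : γ → F) :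
    rowOf B e ⬝ᵥ z = B z e := by
  conv_rhs => rw [pi_eq_sum_univ' z]
  rw [map_sum, LinearMap.sum_apply, dotProduct]
  refine Finset.sum_congr rfl fun k _ => ?_
  rw [map_smul, LinearMap.smul_apply, smul_eq_mul, rowOf, mul_comm]

/-- Contraction against a vector of the first space. -/
def cv (B₁ : LinearMap.BilinForm F (α → F)) (d : α → F) : (α × β → F) →ₗ[F] (β → F) where
  toFun x k := B₁ (fun i => x (i, k)) d
  map_add' x y := funext fun k => by
    show B₁ (fun i => (x + y) (i, k)) d = B₁ (fun i => x (i, k)) d + B₁ (fun i => y (i, k)) d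
    rw [← LinearMap.add_apply, ← map_add]
    rfl
  map_smul' c x := funext fun k => by
    show B₁ (fun i => (c • x) (i, k)) d = c • B₁ (fun i => x (i, k)) d
    rw [← LinearMap.smul_apply, ← map_smul]
    rfl

theorem cv_pure (d v : α → F) (z : β → F) : cv B₁ d (pure v z) = B₁ v d • z := by
  funext k
  show B₁ (fun i => pure v z (i, k)) d = _
  rw [show (fun i => pure v z (i, k)) = z k • v from funext fun i => mul_comm _ _, map_smul, LinearMap.smul_apply,
    Pi.smul_apply, smul_eq_mul, smul_eq_mul, mul_comm]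

namespace TS

variable (S : TS B₁ B₂ Q)
include S

theorem stab_mem_omega {e : β → F} (he : e ≠ 0) {k : GL (α × β) F} (hk : k ∈ Cfsg.isometryGroup F (⇑Q))
    (hfix : ∀ v, (k : Matrix (α × β) (α × β) F) *ᵥ pure v e = pure v e)
    (hperp : ∀ x, cw B₂ e x = 0 → ∃ c, (k : Matrix (α × β) (α × β) F) *ᵥ x = x + pure c e) :
    k ∈ Cfsg.Geo.omegaGL (⇑Q) := by
  obtain ⟨f, hf⟩ := S.alt₂.exists_one he
  have hb : ∀ j : α, ∃ b, ∀ v, B₁ v b = -(v j) := fun j => by
    obtain ⟨b, hb⟩ := S.alt₁.exists_rep (-(LinearMap.proj j : (α → F) →ₗ[F] F))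
    exact ⟨b, hb⟩
  choose b hb using hb
  refine mem_omega_of_layers S.nondeg S.card_ge (fun i : α => pure (Pi.single i (1 : F)) e) (fun j => pure (b j) f)
    (fun i => S.pure0 _ _) (fun i j => ?_) (fun i j => ?_) k hk (fun i => hfix _) (fun x hx => ?_)
  · rw [S.polar, S.alt₂.self, mul_zero]
  · rw [S.polar, hb, S.alt₂.skew f e, hf, Pi.single_apply]
    by_cases h : i = j <;> simp [h, Ne.symm]
  · have hx0 : cw B₂ e x = 0 := S.alt₁.nd _ fun v => by
      rw [pi_eq_sum_univ' v, map_sum]
      refine Finset.sum_eq_zero fun i _ => ?_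
      have := hx i
      rw [S.pure_polar] at this
      rw [map_smul, this, smul_zero]
    obtain ⟨c, hc⟩ := hperp x hx0
    rw [hc, add_sub_cancel_left]
    refine (Submodule.mem_span_range_iff_exists_fun F).mpr ⟨c, ?_⟩
    simp only [← pure_smul_left]
    exact funext fun ⟨i, k⟩ => by
      rw [Finset.sum_apply, Finset.sum_eq_single i (fun j _ hj => by simp [pure_apply, Ne.symm hj])
        (fun h => absurd (mem_univ i) h)]
      simp [pure_apply]

theorem exists_tW (e : β → F) (t : F) :
    ∃ g : GL (α × β) F, IsKron g ∧ g ∈ Cfsg.Geo.omegaGL (⇑Q) ∧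
      ∀ v z, (g : Matrix (α × β) (α × β) F) *ᵥ pure v z = pure v (z + (t * B₂ z e) • e) := by
  haveI := S.nonempty_left
  haveI := S.nonempty_right
  have h0 : rowOf B₂ e ⬝ᵥ (t • e) = 0 := by rw [rowOf_dot, map_smul, LinearMap.smul_apply, S.alt₂.self, smul_zero]
  refine ⟨TensorMax.rootGL (t • e) (rowOf B₂ e) h0, ?_, ?_, ?_⟩
  · exact isKron_of_mat _ 1 (1 + vecMulVec (t • e) (rowOf B₂ e)) (by rw [TensorMax.rootGL_val, TensorMax.one_add_rootMat])
  · have hact : ∀ v z, (TensorMax.rootGL (α := α) (t • e) (rowOf B₂ e) h0 : Matrix (α × β) (α × β) F) *ᵥ pure v z =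
        pure v (z + (t * B₂ z e) • e) := by
      intro v z
      rw [TensorMax.rootGL_val, add_mulVec, one_mulVec, TensorMax.rootMat_mulVec_pure, rowOf_dot, smul_smul,
        ← pure_add_right, mul_comm]
    have hk : TensorMax.rootGL (α := α) (t • e) (rowOf B₂ e) h0 ∈ Cfsg.isometryGroup F (⇑Q) := by
      refine S.isom_of_pure (fun v w => by rw [hact]; exact S.pure0 _ _) fun v w v' w' => ?_
      rw [hact, hact, S.polar]
      simp only [map_add, LinearMap.add_apply, map_smul, LinearMap.smul_apply, smul_eq_mul, S.alt₂.self,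
        S.alt₂.skew w' e]
      ring
    by_cases he : e = 0
    · have : TensorMax.rootGL (α := α) (t • e) (rowOf B₂ e) h0 = 1 :=
        ext_pure_GL fun v z => by rw [hact, he, Units.val_one, one_mulVec]; simp
      rw [this]
      exact one_mem _
    refine S.stab_mem_omega he hk (fun v => by rw [hact, S.alt₂.self, mul_zero, zero_smul, add_zero]) fun x hx => ?_
    refine ⟨0, ?_⟩
    rw [pure_zero_left, add_zero]
    have := ext_pure (L := (TensorMax.rootGL (α := α) (t • e) (rowOf B₂ e) h0 : Matrix (α × β) (α × β) F).mulVecLin)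
      (L' := LinearMap.id + t • (TensorMax.pureL e).comp (cw B₂ e)) fun v w => by
        show _ *ᵥ pure v w = pure v w + t • pure (cw B₂ e (pure v w)) e
        rw [hact, cw_pure, pure_smul_left, smul_smul, pure_add_right, pure_smul_right]
    have := DFunLike.congr_fun this x
    simpa [hx, TensorMax.pureL, pure_zero_left] using this
  · intro v z
    rw [TensorMax.rootGL_val, add_mulVec, one_mulVec, TensorMax.rootMat_mulVec_pure, rowOf_dot, smul_smul,
      ← pure_add_right, mul_comm]

theorem exists_tU (d : α → F) (t : F) :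
    ∃ g : GL (α × β) F, IsKron g ∧ g ∈ Cfsg.Geo.omegaGL (⇑Q) ∧
      ∀ v z, (g : Matrix (α × β) (α × β) F) *ᵥ pure v z = pure (v + (t * B₁ v d) • d) z := by
  haveI := S.nonempty_left
  haveI := S.nonempty_right
  have hdet : (1 + vecMulVec (t • d) (rowOf B₁ d)).det = 1 := by
    rw [LinOne.det_one', rowOf_dot, map_smul, LinearMap.smul_apply, S.alt₁.self, smul_zero, add_zero]
  set g : GL (α × β) F := kronGL (1 + vecMulVec (t • d) (rowOf B₁ d)) 1 (by rw [hdet]; exact one_ne_zero)
    (by rw [det_one]; exact one_ne_zero)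
  have hact : ∀ v z, (g : Matrix (α × β) (α × β) F) *ᵥ pure v z = pure (v + (t * B₁ v d) • d) z := by
    intro v z
    rw [kronGL_val, kron_mulVec_pure, one_mulVec, add_mulVec, one_mulVec, vecMulVec_mulVec, rowOf_dot,
      op_smul_eq_smul, smul_smul, mul_comm]
  refine ⟨g, isKron_of_mat _ _ 1 rfl, ?_, hact⟩
  have hk : g ∈ Cfsg.isometryGroup F (⇑Q) := by
    refine S.isom_of_pure (fun v w => by rw [hact]; exact S.pure0 _ _) fun v w v' w' => ?_
    rw [hact, hact, S.polar]
    simp only [map_add, LinearMap.add_apply, map_smul, LinearMap.smul_apply, smul_eq_mul, S.alt₁.self,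
      S.alt₁.skew v' d]
    ring
  by_cases hd : d = 0
  · have : g = 1 := ext_pure_GL fun v z => by rw [hact, hd, Units.val_one, one_mulVec]; simp
    rw [this]
    exact one_mem _
  obtain ⟨d', hd'⟩ := S.alt₁.exists_one hd
  have hb : ∀ j : β, ∃ b, ∀ z, B₂ z b = -(z j) := fun j => by
    obtain ⟨b, hb⟩ := S.alt₂.exists_rep (-(LinearMap.proj j : (β → F) →ₗ[F] F))
    exact ⟨b, hb⟩
  choose b hb using hb
  refine mem_omega_of_layers S.nondeg S.card_ge (fun i : β => pure d (Pi.single i (1 : F))) (fun j => pure d' (b j))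
    (fun i => S.pure0 _ _) (fun i j => ?_) (fun i j => ?_) g hk
    (fun i => by rw [hact, S.alt₁.self, mul_zero, zero_smul, add_zero]) (fun x hx => ?_)
  · rw [S.polar, S.alt₁.self, zero_mul]
  · rw [S.polar, hb, S.alt₁.skew d' d, hd', Pi.single_apply]
    by_cases h : i = j <;> simp [h, Ne.symm]
  · have hpol : ∀ y z, QuadraticMap.polar (⇑Q) y (pure d z) = B₂ (cv B₁ d y) z := fun y z =>
      DFunLike.congr_fun (ext_pure (L := (QuadraticMap.polarBilin Q).flip (pure d z))
        (L' := (B₂.flip z).comp (cv B₁ d)) fun v w => by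
          show QuadraticMap.polar (⇑Q) (pure v w) (pure d z) = B₂ (cv B₁ d (pure v w)) z
          rw [S.polar, cv_pure, map_smul, LinearMap.smul_apply, smul_eq_mul]) y
    have hcx : cv B₁ d x = 0 := S.alt₂.nd _ fun z => by
      rw [pi_eq_sum_univ' z, map_sum]
      refine Finset.sum_eq_zero fun i _ => ?_
      have := hx i
      rw [QuadraticMap.polar_comm, hpol] at this
      rw [map_smul, this, smul_zero]
    have := DFunLike.congr_fun (ext_pure (L := (g : Matrix (α × β) (α × β) F).mulVecLin)
      (L' := LinearMap.id + t • (pureR d).comp (cv B₁ d)) fun v w => by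
        show _ *ᵥ pure v w = pure v w + t • pure d (cv B₁ d (pure v w))
        rw [hact, cv_pure, pure_smul_right, smul_smul, pure_add_left, pure_smul_left]) x
    rw [show (g : Matrix (α × β) (α × β) F) *ᵥ x = x by simpa [hcx, pureR, pure_zero_right] using this, sub_self]
    exact zero_mem _

end TS

end Cfsg.Lib.Classical.TensorQ
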