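import Cfsg.Agent.Classical.TensorQ.Stab
import Cfsg.Agent.Classical.TensorQ.RankOne

/-! More radical than the Kronecker products gives Siegel elements on `v ⊗ e`, `v ⊗ w`. -/

set_option autoImplicit false
set_option linter.unusedSectionVars false
set_option linter.unusedSimpArgs false
set_option linter.style.haveILetI false

namespace Cfsg.Lib.Classical.TensorQ

open Matrix Finset
open scoped Kronecker
open Cfsg.Lib.Classical.TensorMax (pure pure_apply pure_single pure_ne_zero pure_add_left pure_add_right pure_smul_left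
  pure_smul_right pure_zero_left pure_zero_right pureL pureR IsKron kronGL kronGL_val kron_mulVec_pure isKron_of_mat)

universe u

variable {α β : Type} [Fintype α] [DecidableEq α] [Fintype β] [DecidableEq β] {F : Type u} [Field F] [Finite F]
  {B₁ : LinearMap.BilinForm F (α → F)} {B₂ : LinearMap.BilinForm F (β → F)} {Q : QuadraticForm F (α × β → F)}
  {X : Subgroup (GL (α × β) F)}

/-- `k` acts as a radical element with first layer `Y`. -/
structure Acts (B₂ : LinearMap.BilinForm F (β → F)) (e : β → F) (Y : (α → F) →ₗ[F] (α × β → F))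
    (k : GL (α × β) F) : Prop where
  fix : ∀ v, (k : Matrix (α × β) (α × β) F) *ᵥ pure v e = pure v e
  act : ∀ x, ∃ c, (k : Matrix (α × β) (α × β) F) *ᵥ x = x + Y (cw B₂ e x) + pure c e

/-- Some element of `X` acts as a radical element with first layer `Y`. -/
def Rel (B₂ : LinearMap.BilinForm F (β → F)) (X : Subgroup (GL (α × β) F)) (e : β → F)
    (Y : (α → F) →ₗ[F] (α × β → F)) : Prop :=
  (∀ v, cw B₂ e (Y v) = 0) ∧ ∃ k ∈ X, Acts B₂ e Y k

/-- `A` occurs as a block at `e`, `w`. -/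
def Has (B₂ : LinearMap.BilinForm F (β → F)) (X : Subgroup (GL (α × β) F)) (A : (α → F) →ₗ[F] (α → F))
    (e w : β → F) : Prop :=
  Rel B₂ X e ((pureL w).comp A)

/-- `A` occurs as a block everywhere. -/
def InAlg (B₂ : LinearMap.BilinForm F (β → F)) (X : Subgroup (GL (α × β) F)) (A : (α → F) →ₗ[F] (α → F)) : Prop :=
  ∀ e w : β → F, e ≠ 0 → B₂ e w = 0 → Has B₂ X A e w

/-- The Siegel element on `v ⊗ e`, `c (v ⊗ w)` lies in `X`. -/
def Seed (Q : QuadraticForm F (α × β → F)) (X : Subgroup (GL (α × β) F)) (u z : α × β → F) : Prop :=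
  ∃ g ∈ X, ∀ x, (g : Matrix (α × β) (α × β) F) *ᵥ x = Refl.siegelMap Q u z x

namespace TS

variable (S : TS B₁ B₂ Q)
include S

theorem cw_line (e : β → F) (c : α → F) : cw B₂ e (pure c e) = 0 := by
  rw [cw_pure, S.alt₂.self, zero_smul]

theorem rel_add (hX : Mid Q X) {e : β → F} {Y Y' : (α → F) →ₗ[F] (α × β → F)} (h : Rel B₂ X e Y)
    (h' : Rel B₂ X e Y') : Rel B₂ X e (Y + Y') := by
  obtain ⟨hp, k, hk, hka⟩ := h
  obtain ⟨hp', k', hk', hka'⟩ := h'
  refine ⟨fun v => by rw [LinearMap.add_apply, map_add, hp, hp', add_zero], k * k', mul_mem hk hk', fun v => ?_,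
    fun x => ?_⟩
  · rw [mul_mulVec_GL, hka'.fix, hka.fix]
  · obtain ⟨c', hc'⟩ := hka'.act x
    obtain ⟨c, hc⟩ := hka.act x
    obtain ⟨d, hd⟩ := hka.act (Y' (cw B₂ e x))
    refine ⟨c + c' + d, ?_⟩
    rw [mul_mulVec_GL, hc', mulVec_add, mulVec_add, hc, hka.fix, hd, hp', map_zero, pure_add_left, pure_add_left,
      LinearMap.add_apply]
    abel

theorem rel_neg (hX : Mid Q X) {e : β → F} {Y : (α → F) →ₗ[F] (α × β → F)} (h : Rel B₂ X e Y) :
    Rel B₂ X e (-Y) := by
  obtain ⟨hp, k, hk, hka⟩ := h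
  have hfix : ∀ v, ((k⁻¹ : GL (α × β) F) : Matrix (α × β) (α × β) F) *ᵥ pure v e = pure v e := fun v => by
    conv_lhs => rw [← hka.fix v, mulVec_inv_self]
  refine ⟨fun v => by rw [LinearMap.neg_apply, map_neg, hp, neg_zero], k⁻¹, inv_mem hk, hfix, fun x => ?_⟩
  set y := ((k⁻¹ : GL (α × β) F) : Matrix (α × β) (α × β) F) *ᵥ x with hy
  obtain ⟨c, hc⟩ := hka.act y
  rw [hy, mulVec_self_inv, ← hy] at hc
  have hcw : cw B₂ e x = cw B₂ e y := by rw [hc, map_add, map_add, hp, S.cw_line, add_zero, add_zero]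
  refine ⟨-c, ?_⟩
  rw [LinearMap.neg_apply, hcw, show pure (-c) e = -pure c e from map_neg (pureL e) c]
  nth_rewrite 1 [hc]
  abel

theorem rel_conj (hX : Mid Q X) {g : GL (α × β) F} (hg : g ∈ X) (a : (α → F) ≃ₗ[F] (α → F))
    (ha : ∀ v w, B₁ (a v) (a w) = B₁ v w) {e e' : β → F}
    (hge : ∀ v, (g : Matrix (α × β) (α × β) F) *ᵥ pure v e = pure (a v) e') {Y : (α → F) →ₗ[F] (α × β → F)}
    (h : Rel B₂ X e Y) :
    Rel B₂ X e' ((g : Matrix (α × β) (α × β) F).mulVecLin.comp (Y.comp a.symm.toLinearMap)) := by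
  obtain ⟨hp, k, hk, hka⟩ := h
  have hcw : ∀ x, cw B₂ e' ((g : Matrix (α × β) (α × β) F) *ᵥ x) = a (cw B₂ e x) := fun x =>
    sub_eq_zero.mp (S.alt₁.nd _ fun w => by
      rw [← a.apply_symm_apply w, map_sub, LinearMap.sub_apply, ha, ← S.polar_pure, ← hge, polar_isom (hX.isom hg),
        S.polar_pure, sub_self])
  refine ⟨fun v => ?_, g * k * g⁻¹, mul_mem (mul_mem hg hk) (inv_mem hg), fun v => ?_, fun x => ?_⟩
  · show cw B₂ e' ((g : Matrix (α × β) (α × β) F) *ᵥ Y (a.symm v)) = 0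
    rw [hcw, hp, map_zero]
  · conv_lhs => rw [← a.apply_symm_apply v, ← hge, mul_mulVec_GL, mulVec_inv_self, mul_mulVec_GL, hka.fix, hge,
      a.apply_symm_apply]
  · set y := ((g⁻¹ : GL (α × β) F) : Matrix (α × β) (α × β) F) *ᵥ x with hy
    obtain ⟨c, hc⟩ := hka.act y
    refine ⟨a c, ?_⟩
    have hxy : x = (g : Matrix (α × β) (α × β) F) *ᵥ y := by rw [hy, mulVec_self_inv]
    show _ = x + (g : Matrix (α × β) (α × β) F) *ᵥ Y (a.symm (cw B₂ e' x)) + pure (a c) e'
    rw [mul_mulVec_GL, mul_mulVec_GL, ← hy, hc, mulVec_add, mulVec_add, hge, ← hxy]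
    congr 2
    rw [hxy, hcw, a.symm_apply_apply]

/-- Commutator of a radical element with a transvection fixing `e`. -/
theorem rel_comm (hX : Mid Q X) {e w : β → F} (hew : B₂ e w = 0) (s : F) {Y : (α → F) →ₗ[F] (α × β → F)}
    (h : Rel B₂ X e Y) : Rel B₂ X e (s • (pureL w).comp ((cw B₂ w).comp Y)) := by
  obtain ⟨t, htk, htΩ, ht⟩ := S.exists_tW w s
  have h1 := S.rel_conj hX (hX.kron t htk htΩ) (LinearEquiv.refl F _) (fun v w => rfl) (e' := e) (fun v => by
    rw [ht, hew, mul_zero, zero_smul, add_zero]; rfl) h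
  have h2 := S.rel_add hX h1 (S.rel_neg hX h)
  convert h2 using 1
  refine LinearMap.ext fun v => ?_
  have := DFunLike.congr_fun (ext_pure (L := (t : Matrix (α × β) (α × β) F).mulVecLin)
    (L' := LinearMap.id + s • (pureL w).comp (cw B₂ w)) fun v z => by
      show _ *ᵥ pure v z = pure v z + s • pure (cw B₂ w (pure v z)) w
      rw [ht, cw_pure, pure_add_right, pure_smul_right, pure_smul_left, smul_smul]) (Y v)
  show _ = (t : Matrix (α × β) (α × β) F) *ᵥ Y v + -Y v
  simp only [Matrix.mulVecLin_apply, LinearMap.add_apply, LinearMap.id_apply, LinearMap.smul_apply] at this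
  rw [this, LinearMap.smul_apply, ← sub_eq_add_neg, add_sub_cancel_left]
  rfl

theorem has_add_left (hX : Mid Q X) {A A' : (α → F) →ₗ[F] (α → F)} {e w : β → F} (h : Has B₂ X A e w)
    (h' : Has B₂ X A' e w) : Has B₂ X (A + A') e w := by
  rw [Has, LinearMap.comp_add]; exact S.rel_add hX h h'

theorem has_add_right (hX : Mid Q X) {A : (α → F) →ₗ[F] (α → F)} {e w w' : β → F} (h : Has B₂ X A e w)
    (h' : Has B₂ X A e w') : Has B₂ X A e (w + w') := by
  have := S.rel_add hX h h'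
  unfold Has
  convert this using 1
  exact LinearMap.ext fun v => pure_add_right (A v) w w'

theorem has_neg_right (hX : Mid Q X) {A : (α → F) →ₗ[F] (α → F)} {e w : β → F} (h : Has B₂ X A e w) :
    Has B₂ X A e (-w) := by
  have := S.rel_neg hX h
  unfold Has
  convert this using 1
  exact LinearMap.ext fun v => map_neg (pureR (A v)) w

theorem has_move (hX : Mid Q X) {A : (α → F) →ₗ[F] (α → F)} {e w w' : β → F} (hew' : B₂ e w' = 0) (s : F)
    (h : Has B₂ X A e w) : Has B₂ X A e ((s * B₂ w w') • w') := by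
  have := S.rel_comm hX hew' s h
  unfold Has
  convert this using 1
  refine LinearMap.ext fun v => ?_
  show pure (A v) _ = s • pure (cw B₂ w' (pure (A v) w)) w'
  rw [cw_pure, pure_smul_left, pure_smul_right, smul_smul]

theorem inAlg_of_has (hX : Mid Q X) {A : (α → F) →ₗ[F] (α → F)} {e w : β → F} (he : e ≠ 0) (hew : B₂ e w = 0)
    (hw : ∀ c : F, w ≠ c • e) (h : Has B₂ X A e w) : InAlg B₂ X A := by
  have hall : ∀ w', B₂ e w' = 0 → Has B₂ X A e w' := by
    have hne : ∀ w', B₂ e w' = 0 → B₂ w w' ≠ 0 → Has B₂ X A e w' := fun w' h1 h2 => by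
      have := S.has_move hX h1 (B₂ w w')⁻¹ h
      rwa [inv_mul_cancel₀ h2, one_smul] at this
    obtain ⟨w₁, hw₁, hw₁'⟩ : ∃ w₁, B₂ e w₁ = 0 ∧ B₂ w w₁ ≠ 0 := by
      by_contra hc
      push Not at hc
      obtain ⟨c, hc⟩ := S.alt₂.mem_line he hc
      exact hw c hc
    intro w' hw'
    by_cases h2 : B₂ w w' = 0
    · have h3 := hne (w' + w₁) (by rw [map_add, hw', hw₁, add_zero]) (by rwa [map_add, h2, zero_add])
      have := S.has_add_right hX h3 (S.has_neg_right hX (hne w₁ hw₁ hw₁'))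
      rwa [add_neg_cancel_right] at this
    · exact hne w' hw' h2
  have key : ∀ e' : β → F, e' ≠ 0 → ∀ w', B₂ e' w' = 0 → Has B₂ X A e' w' := by
    intro e' he'
    refine S.alt₂.transitive (P := fun e' => ∀ w', B₂ e' w' = 0 → Has B₂ X A e' w')
      (fun d t x hx w' hw' => ?_) he he' hall
    obtain ⟨g, hgk, hgΩ, hg⟩ := S.exists_tW d t
    have h0 : B₂ x (w' - (t * B₂ w' d) • d) = 0 := by
      rw [map_sub, map_smul, smul_eq_mul]
      rw [map_add, LinearMap.add_apply, map_smul, LinearMap.smul_apply, smul_eq_mul, S.alt₂.skew w' d] at hw'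
      linear_combination hw'
    have := S.rel_conj hX (hX.kron g hgk hgΩ) (LinearEquiv.refl F _) (fun v w => rfl) (e' := x + (t * B₂ x d) • d)
      (fun v => by rw [hg]; rfl) (hx _ h0)
    unfold Has
    convert this using 1
    refine LinearMap.ext fun v => ?_
    show pure (A v) w' = (g : Matrix (α × β) (α × β) F) *ᵥ pure (A v) _
    rw [hg]
    congr 1
    simp only [map_sub, LinearMap.sub_apply, map_smul, LinearMap.smul_apply, smul_eq_mul, S.alt₂.self]
    module
  exact fun e' w' he' hew' => key e' he' w' hew'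

/-- A radical element whose first layer is orthogonal to `x` fixes `x`. -/
theorem acts_fix (hX : Mid Q X) {e : β → F} (he : e ≠ 0) {Y : (α → F) →ₗ[F] (α × β → F)}
    (hp : ∀ v, cw B₂ e (Y v) = 0) {k : GL (α × β) F} (hk : k ∈ X) (hka : Acts B₂ e Y k) {x : α × β → F}
    (hx : cw B₂ e x = 0) (hxY : ∀ v, QuadraticMap.polar (⇑Q) x (Y v) = 0) :
    (k : Matrix (α × β) (α × β) F) *ᵥ x = x := by
  obtain ⟨f, hf⟩ := S.alt₂.exists_one he
  obtain ⟨c, hc⟩ := hka.act x
  rw [hx, map_zero, add_zero] at hc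
  have hc0 : c = 0 := S.alt₁.nd c fun v => by
    obtain ⟨c', hc'⟩ := hka.act (pure v f)
    have := polar_isom (hX.isom hk) x (pure v f)
    rw [hc, hc', cw_pure, hf, one_smul, QuadraticMap.polar_add_left, QuadraticMap.polar_add_right,
      QuadraticMap.polar_add_right, QuadraticMap.polar_add_right, QuadraticMap.polar_add_right, hxY,
      S.polar_pure x c' e, hx, map_zero, LinearMap.zero_apply, S.polar, S.polar, S.alt₂.self, S.pure_polar (Y v) c e,
      hp, map_zero, LinearMap.zero_apply, S.alt₂.skew f e, hf] at this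
    linear_combination -this
  rw [hc, hc0, pure_zero_left, add_zero]

theorem inAlg_comp (hX : Mid Q X) {A A' : (α → F) →ₗ[F] (α → F)} (hA : InAlg B₂ X A) (hA' : InAlg B₂ X A') :
    InAlg B₂ X (A'.comp A) := by
  obtain ⟨k₀⟩ := S.nonempty_right
  have he : (Pi.single k₀ (1 : F) : β → F) ≠ 0 := by simp
  set e : β → F := Pi.single k₀ 1
  obtain ⟨w, w', g, g', hew, hew', heg, heg', hww, hwg, hwg', hw'g, hw'g', hgg⟩ :=
    S.alt₂.exists_two_pairs S.five_le he
  have hw' : w' ≠ 0 := fun h => by rw [h, map_zero] at hww; exact zero_ne_one hww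
  obtain ⟨hp₂, k, hk, hka⟩ := hA' w' g hw' hw'g
  have hfix : ∀ v, (k : Matrix (α × β) (α × β) F) *ᵥ pure v e = pure v e := fun v =>
    S.acts_fix hX hw' hp₂ hk hka (by rw [cw_pure, hew', zero_smul]) fun u => by
      show QuadraticMap.polar (⇑Q) (pure v e) (pure (A' u) g) = 0
      rw [S.polar, heg, mul_zero]
  have h1 := S.rel_conj hX hk (LinearEquiv.refl F _) (fun v w => rfl) (e' := e) hfix (hA e w he hew)
  have h2 := S.rel_comm hX heg' 1 h1
  have hg'e : ∀ c : F, g' ≠ c • e := fun c hc => by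
    rw [hc, map_smul, S.alt₂.swap heg, smul_zero] at hgg
    exact zero_ne_one hgg
  refine S.inAlg_of_has hX he heg' hg'e ?_
  unfold Has
  convert h2 using 1
  refine LinearMap.ext fun v => ?_
  show pure (A' (A v)) g' = (1 : F) • pure (cw B₂ g' ((k : Matrix (α × β) (α × β) F) *ᵥ pure (A v) w)) g'
  obtain ⟨c, hc⟩ := hka.act (pure (A v) w)
  rw [one_smul, hc, cw_pure, hww, one_smul, map_add, map_add, cw_pure, cw_pure, hwg', hw'g']
  show _ = pure (0 • A v + cw B₂ g' (pure (A' (A v)) g) + (0 : F) • c) g'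
  rw [cw_pure, hgg, one_smul]
  simp

theorem inAlg_add (hX : Mid Q X) {A A' : (α → F) →ₗ[F] (α → F)} (hA : InAlg B₂ X A) (hA' : InAlg B₂ X A') :
    InAlg B₂ X (A + A') := fun e w he hew => S.has_add_left hX (hA e w he hew) (hA' e w he hew)

theorem inAlg_neg (hX : Mid Q X) {A : (α → F) →ₗ[F] (α → F)} (hA : InAlg B₂ X A) : InAlg B₂ X (-A) :=
  fun e w he hew => by rw [Has, LinearMap.comp_neg]; exact S.rel_neg hX (hA e w he hew)

theorem inAlg_smul (hX : Mid Q X) (c : F) {A : (α → F) →ₗ[F] (α → F)} (hA : InAlg B₂ X A) :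
    InAlg B₂ X (c • A) := fun e w he hew => by
  have := hA e (c • w) he (by rw [map_smul, hew, smul_zero])
  unfold Has at this ⊢
  convert this using 1
  refine LinearMap.ext fun v => ?_
  show pure (c • A v) w = pure (A v) (c • w)
  rw [pure_smul_left, pure_smul_right]

theorem inAlg_conj (hX : Mid Q X) (d : α → F) (t : F) {A : (α → F) →ₗ[F] (α → F)} (hA : InAlg B₂ X A) :
    InAlg B₂ X ((transv B₁ d t).comp (A.comp (transv B₁ d (-t)))) := fun e w he hew => by
  obtain ⟨g, hgk, hgΩ, hg⟩ := S.exists_tU d t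
  have hinv : ∀ s : F, (transv B₁ d s).comp (transv B₁ d (-s)) = LinearMap.id := fun s => LinearMap.ext fun x => by
    simp only [LinearMap.comp_apply, transv_apply, map_add, map_smul, LinearMap.add_apply, LinearMap.smul_apply,
      smul_eq_mul, S.alt₁.self, LinearMap.id_apply]
    module
  let a : (α → F) ≃ₗ[F] (α → F) := LinearEquiv.ofLinearMap (transv B₁ d t) (transv B₁ d (-t)) (hinv t)
    (by simpa using hinv (-t))
  have ha : ∀ v w, B₁ (a v) (a w) = B₁ v w := fun v w => by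
    show B₁ (transv B₁ d t v) (transv B₁ d t w) = _
    simp only [transv_apply, map_add, map_smul, LinearMap.add_apply, LinearMap.smul_apply, smul_eq_mul, S.alt₁.self,
      S.alt₁.skew w d]
    ring
  have := S.rel_conj hX (hX.kron g hgk hgΩ) a ha (e' := e) (fun v => by
    rw [hg]; show _ = pure (transv B₁ d t v) e; rw [transv_apply]) (hA e w he hew)
  unfold Has
  convert this using 1
  refine LinearMap.ext fun v => ?_
  show pure (transv B₁ d t (A (transv B₁ d (-t) v))) w =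
    (g : Matrix (α × β) (α × β) F) *ᵥ pure (A (transv B₁ d (-t) v)) w
  rw [hg, transv_apply]

theorem closed (hX : Mid Q X) : Closed B₁ (InAlg B₂ X) :=
  ⟨fun _ _ h h' => S.inAlg_add hX h h', fun _ h => S.inAlg_neg hX h, fun c _ h => S.inAlg_smul hX c h,
    fun _ _ h h' => S.inAlg_comp hX h' h, fun d t _ h => S.inAlg_conj hX d t h⟩

theorem inAlg_one (hX : Mid Q X) : InAlg B₂ X (LinearMap.id : (α → F) →ₗ[F] (α → F)) := fun e w he hew => by
  obtain ⟨R, hR, -, hRy⟩ := S.exists_radW hX hew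
  refine ⟨fun v => ?_, R, hR, fun v => ?_, fun x => ⟨cw B₂ w x, ?_⟩⟩
  · show cw B₂ e (pure v w) = 0
    rw [cw_pure, S.alt₂.swap hew, zero_smul]
  · rw [hRy, cw_pure, cw_pure, S.alt₂.self, hew]
    simp only [zero_smul, pure_zero_left, add_zero]
  · rw [hRy, add_right_comm]
    rfl

theorem exists_nonscalar (hX : Mid Q X) (hA : ¬ RadScalar B₂ X) :
    ∃ A, InAlg B₂ X A ∧ ∀ c : F, A ≠ c • (LinearMap.id : (α → F) →ₗ[F] (α → F)) := by
  haveI := S.nonempty_left
  haveI := S.nonempty_right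
  unfold RadScalar at hA
  push Not at hA
  obtain ⟨e, he, k, hk, hrad, hnk⟩ := hA
  obtain ⟨f, hf⟩ := S.alt₂.exists_one he
  let Y : (α → F) →ₗ[F] (α × β → F) := (k : Matrix (α × β) (α × β) F).mulVecLin.comp (pureL f) - pureL f
  have hYv : ∀ v, Y v = (k : Matrix (α × β) (α × β) F) *ᵥ pure v f - pure v f := fun v => rfl
  have hp : ∀ v, cw B₂ e (Y v) = 0 := fun v => S.alt₁.nd _ fun u => by
    rw [← S.polar_pure, hYv, QuadraticMap.polar_sub_left]
    nth_rewrite 1 [← hrad.fix u]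
    rw [polar_isom (hX.isom hk), sub_self]
  have hY : Rel B₂ X e Y := by
    refine ⟨hp, k, hk, hrad.fix, fun x => ?_⟩
    obtain ⟨c, hc⟩ := hrad.perp (x - pure (cw B₂ e x) f)
      (by rw [map_sub, cw_pure, hf, one_smul, sub_self])
    refine ⟨c, ?_⟩
    rw [mulVec_sub, sub_eq_iff_eq_add] at hc
    rw [hc, hYv]
    abel
  by_cases hall : ∀ w, B₂ e w = 0 → ∃ c : F, (cw B₂ w).comp Y = c • LinearMap.id
  swap
  · push Not at hall
    obtain ⟨w, hew, hns⟩ := hall
    refine ⟨(cw B₂ w).comp Y, ?_, hns⟩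
    refine S.inAlg_of_has hX he hew (fun c hc => hns 0 ?_) ?_
    · refine LinearMap.ext fun v => funext fun i => ?_
      show B₂ (fun k => Y v (i, k)) w = ((0 : F) • LinearMap.id : (α → F) →ₗ[F] (α → F)) v i
      rw [hc, map_smul, show B₂ (fun k => Y v (i, k)) e = cw B₂ e (Y v) i from rfl, hp]
      simp
    · have := S.rel_comm hX hew 1 hY
      rwa [one_smul] at this
  -- the first layer is scalar: reduce to a centre element
  obtain ⟨u₀, hu₀⟩ := exists_ne (0 : α → F)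
  obtain ⟨v₀, hv₀⟩ := S.alt₁.exists_one (show -u₀ ≠ 0 from neg_ne_zero.mpr hu₀)
  rw [map_neg, ← S.alt₁.skew] at hv₀
  set y := cv B₁ v₀ (Y u₀) with hy
  have hYy : ∀ v, ∃ c, Y v = pure v y + pure c e := fun v => by
    obtain ⟨c, hc⟩ := S.mem_line he (x := Y v - pure v y) fun w hw => by
      obtain ⟨c, hc⟩ := hall w hw
      have hcv : ∀ v, cw B₂ w (Y v) = c • v := fun v => DFunLike.congr_fun hc v
      rw [map_sub, cw_pure, hcv, hy, S.cv_cw, hcv, map_smul, LinearMap.smul_apply, hv₀, smul_eq_mul, mul_one,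
        sub_self]
    exact ⟨c, by rw [← hc, add_sub_cancel]⟩
  have hey : B₂ e y = 0 := S.alt₂.swap (by rw [hy, S.cv_cw, hp, map_zero, LinearMap.zero_apply])
  obtain ⟨R, hR, hRk, hRy⟩ := S.exists_radW hX hey
  have hRfix : ∀ v, (R : Matrix (α × β) (α × β) F) *ᵥ pure v e = pure v e := fun v => by
    rw [hRy, cw_pure, cw_pure, S.alt₂.self, hey]
    simp only [zero_smul, pure_zero_left, add_zero]
  have hRinv : ∀ v, ((R⁻¹ : GL (α × β) F) : Matrix (α × β) (α × β) F) *ᵥ pure v e = pure v e := fun v => by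
    conv_lhs => rw [← hRfix v, mulVec_inv_self]
  set kc := R⁻¹ * k with hkc
  have hkcX : kc ∈ X := mul_mem (inv_mem hR) hk
  have hact : Acts B₂ e (0 : (α → F) →ₗ[F] (α × β → F)) kc := by
    refine ⟨fun v => by rw [hkc, mul_mulVec_GL, hrad.fix, hRinv], fun x => ?_⟩
    obtain ⟨c, hc⟩ := hrad.perp (x - pure (cw B₂ e x) f) (by rw [map_sub, cw_pure, hf, one_smul, sub_self])
    obtain ⟨d, hd⟩ := hYy (cw B₂ e x)
    rw [mulVec_sub, sub_eq_iff_eq_add] at hc
    have hkx : (k : Matrix (α × β) (α × β) F) *ᵥ x = x + pure (cw B₂ e x) y + pure (c + d) e := by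
      rw [hc, ← sub_add_cancel ((k : Matrix (α × β) (α × β) F) *ᵥ pure (cw B₂ e x) f) (pure (cw B₂ e x) f), ← hYv, hd,
        pure_add_left]
      abel
    refine ⟨c + d - cw B₂ y x, ?_⟩
    rw [hkc, mul_mulVec_GL, LinearMap.zero_apply, add_zero, hkx]
    have hRx : (R : Matrix (α × β) (α × β) F) *ᵥ (x + pure (c + d - cw B₂ y x) e) =
        x + pure (cw B₂ e x) y + pure (c + d) e := by
      rw [mulVec_add, hRfix, hRy, show pure (c + d - cw B₂ y x) e = pure (c + d) e - pure (cw B₂ y x) e from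
        map_sub (pureL e) _ _]
      abel
    rw [← hRx, mulVec_inv_self]
  let C : (α → F) →ₗ[F] (α → F) := (cw B₂ (-f)).comp ((kc : Matrix (α × β) (α × β) F).mulVecLin.comp (pureL f) - pureL f)
  have hform : ∀ x, (kc : Matrix (α × β) (α × β) F) *ᵥ x = x + pure (C (cw B₂ e x)) e := by
    have hzero : ∀ x, cw B₂ e x = 0 → (kc : Matrix (α × β) (α × β) F) *ᵥ x = x := fun x hx =>
      S.acts_fix hX he (fun v => by simp) hkcX hact hx fun v => by
        rw [LinearMap.zero_apply, QuadraticMap.polar_zero_right]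
    intro x
    have h1 := hzero (x - pure (cw B₂ e x) f) (by rw [map_sub, cw_pure, hf, one_smul, sub_self])
    obtain ⟨c, hc⟩ := hact.act (pure (cw B₂ e x) f)
    rw [LinearMap.zero_apply, add_zero] at hc
    rw [mulVec_sub, hc, sub_eq_iff_eq_add] at h1
    have hC : C (cw B₂ e x) = c := by
      show cw B₂ (-f) ((kc : Matrix (α × β) (α × β) F) *ᵥ pure (cw B₂ e x) f - pure (cw B₂ e x) f) = c
      rw [hc, add_sub_cancel_left, cw_pure, map_neg, S.alt₂.skew f e, hf, neg_neg, one_smul]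
    rw [h1, hC]
    abel
  refine ⟨C, ?_, fun c hC => hnk ?_⟩
  swap
  · have h0 : rowOf B₂ e ⬝ᵥ (c • e) = 0 := by
      rw [rowOf_dot, map_smul, LinearMap.smul_apply, S.alt₂.self, smul_zero]
    have : kc = TensorMax.rootGL (c • e) (rowOf B₂ e) h0 := ext_pure_GL fun v z => by
      rw [hform, TensorMax.rootGL_val, add_mulVec, one_mulVec, TensorMax.rootMat_mulVec_pure, rowOf_dot, cw_pure, hC,
        LinearMap.smul_apply, LinearMap.id_apply, smul_smul, pure_smul_left, ← pure_smul_right, smul_smul,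
        mul_comm c]
    have hkk : IsKron kc := by
      rw [this]
      exact isKron_of_mat _ 1 (1 + vecMulVec _ _) (by rw [TensorMax.rootGL_val, TensorMax.one_add_rootMat])
    have := hRk.mul hkk
    rwa [hkc, mul_inv_cancel_left] at this
  -- move the centre to a root line
  obtain ⟨w₁, w₂, h₁, h₂, h₁₂⟩ := S.alt₂.exists_pair_perp ![e] (by have := S.five_le; omega)
  have hw₁ : w₁ ≠ 0 := fun h => by rw [h, map_zero, LinearMap.zero_apply] at h₁₂; exact zero_ne_one h₁₂
  obtain ⟨k', hk', hk'y⟩ : ∃ k' ∈ X, ∀ x,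
      (k' : Matrix (α × β) (α × β) F) *ᵥ x = x + pure (C (cw B₂ w₁ x)) w₁ := by
    refine S.alt₂.transitive (P := fun w => ∃ k' ∈ X, ∀ x,
      (k' : Matrix (α × β) (α × β) F) *ᵥ x = x + pure (C (cw B₂ w x)) w) (fun d t z hz => ?_) he hw₁
      ⟨kc, hkcX, hform⟩
    obtain ⟨k', hk', hk'y⟩ := hz
    obtain ⟨g, hgk, hgΩ, hg⟩ := S.exists_tW d t
    have hgX := hX.kron g hgk hgΩ
    refine ⟨g * k' * g⁻¹, mul_mem (mul_mem hgX hk') (inv_mem hgX), fun x => ?_⟩
    have hcw : cw B₂ z (((g⁻¹ : GL (α × β) F) : Matrix (α × β) (α × β) F) *ᵥ x) =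
        cw B₂ (z + (t * B₂ z d) • d) x := sub_eq_zero.mp (S.alt₁.nd _ fun v => by
      rw [map_sub, LinearMap.sub_apply, ← S.polar_pure, ← S.polar_pure,
        ← polar_isom (hX.isom hgX) (((g⁻¹ : GL (α × β) F) : Matrix (α × β) (α × β) F) *ᵥ x), mulVec_self_inv, hg,
        sub_self])
    rw [mul_mulVec_GL, mul_mulVec_GL, hk'y, mulVec_add, mulVec_self_inv, hg, hcw]
  refine S.inAlg_of_has hX he (h₁ 0) (fun c hc => ?_) ?_
  · rw [hc, map_smul, LinearMap.smul_apply, show B₂ e w₂ = 0 from h₂ 0, smul_zero] at h₁₂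
    exact zero_ne_one h₁₂
  have hR2 : Has B₂ X (LinearMap.id : (α → F) →ₗ[F] (α → F)) e w₂ := S.inAlg_one hX e w₂ he (h₂ 0)
  have hfixe : ∀ v, (k' : Matrix (α × β) (α × β) F) *ᵥ pure v e = pure v e := fun v => by
    rw [hk'y, cw_pure, show B₂ e w₁ = 0 from h₁ 0, zero_smul, map_zero, pure_zero_left, add_zero]
  have h3 := S.rel_add hX (S.rel_conj hX hk' (LinearEquiv.refl F _) (fun v w => rfl) (e' := e) hfixe hR2)
    (S.rel_neg hX hR2)
  have h4 := S.rel_neg hX h3
  unfold Has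
  convert h4 using 1
  refine LinearMap.ext fun v => ?_
  show pure (C v) w₁ = -((k' : Matrix (α × β) (α × β) F) *ᵥ pure v w₂ + -pure v w₂)
  rw [hk'y, cw_pure, S.alt₂.skew w₁ w₂, h₁₂, map_smul, neg_smul, one_smul,
    show pure (-C v) w₁ = -pure (C v) w₁ from map_neg (pureL w₁) _]
  abel

theorem inAlg_rk (hX : Mid Q X) {d : α → F} (hd : d ≠ 0) (h : InAlg B₂ X (rk B₁ d d)) {v : α → F} (hv : v ≠ 0) :
    InAlg B₂ X (rk B₁ v v) := by
  refine S.alt₁.transitive (P := fun v => InAlg B₂ X (rk B₁ v v)) (fun p t x hx => ?_) hd hv h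
  have := S.inAlg_conj hX p t hx
  convert this using 1
  refine LinearMap.ext fun y => ?_
  simp only [LinearMap.comp_apply, transv_apply, rk_apply, map_add, map_smul, LinearMap.add_apply,
    LinearMap.smul_apply, smul_eq_mul, S.alt₁.self, S.alt₁.skew x p]
  module

theorem seed (hX : Mid Q X) (hA : ¬ RadScalar B₂ X) (v : α → F) (e w : β → F) (he : e ≠ 0) (hew : B₂ e w = 0)
    (s : F) : Seed Q X (pure v e) (s • pure v w) := by
  by_cases hv : v = 0
  · refine ⟨1, one_mem X, fun x => ?_⟩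
    rw [hv, pure_zero_left, pure_zero_left, smul_zero, Refl.siegel_zero, Units.val_one, one_mulVec]
  obtain ⟨A, hA', hns⟩ := S.exists_nonscalar hX hA
  obtain ⟨d, hd, hdA⟩ := rank_one_mem S.alt₁ (S.closed hX) S.two_le S.big hA' hns
  have hn := S.inAlg_rk hX hd hdA hv
  by_cases hw : ∃ c : F, w = c • e
  · obtain ⟨c, rfl⟩ := hw
    refine ⟨1, one_mem X, fun x => ?_⟩
    rw [Units.val_one, one_mulVec, pure_smul_right, smul_smul, Refl.siegelMap, QuadraticMap.map_smul, S.pure0,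
      QuadraticMap.polar_smul_left]
    simp only [smul_zero, zero_mul, sub_zero, smul_smul, smul_eq_mul]
    module
  push Not at hw
  obtain ⟨w₁, hw₁, hw₁'⟩ : ∃ w₁, B₂ e w₁ = 0 ∧ B₂ w₁ w = s := by
    obtain ⟨w₁, hw₁, hw₁'⟩ : ∃ w₁, B₂ e w₁ = 0 ∧ B₂ w w₁ ≠ 0 := by
      by_contra hc
      push Not at hc
      obtain ⟨c, hc⟩ := S.alt₂.mem_line he hc
      exact hw c hc
    refine ⟨(-s / B₂ w w₁) • w₁, by rw [map_smul, hw₁, smul_zero], ?_⟩
    rw [map_smul, LinearMap.smul_apply, S.alt₂.skew w w₁, smul_eq_mul]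
    field_simp
  obtain ⟨hp, k, hk, hka⟩ := hn e w₁ he hw₁
  have huz : QuadraticMap.polar (⇑Q) (pure v e) (pure v w₁) = 0 := by rw [S.polar, hw₁, mul_zero]
  set Sg := Refl.siegelG Q (S.pure0 v e) huz
  have hSg : ∀ x, ((Sg : GL (α × β) F) : Matrix (α × β) (α × β) F) *ᵥ x = Refl.siegelMap Q (pure v e) (pure v w₁) x :=
    fun x => Refl.mat_siegelG Q (S.pure0 v e) huz x
  have hSI : (Sg : GL (α × β) F) ∈ Cfsg.isometryGroup F (⇑Q) := Sg.2
  have hY : ∀ x, ((pureL w₁).comp (rk B₁ v v)) (cw B₂ e x) = QuadraticMap.polar (⇑Q) (pure v e) x • pure v w₁ := by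
    intro x
    show pure (B₁ (cw B₂ e x) v • v) w₁ = _
    rw [S.pure_polar, pure_smul_left]
  have hSfix : ∀ u, ((Sg : GL (α × β) F) : Matrix (α × β) (α × β) F) *ᵥ pure u e = pure u e := by
    intro u
    rw [hSg, Refl.siegelMap, S.polar, S.polar, S.alt₂.self, S.alt₂.swap hw₁]
    simp
  set kc := (Sg : GL (α × β) F)⁻¹ * k with hkc
  have hzero : ∀ x, cw B₂ e x = 0 → ∀ g : GL (α × β) F, g ∈ Cfsg.isometryGroup F (⇑Q) →
      (∀ u, (g : Matrix (α × β) (α × β) F) *ᵥ pure u e = pure u e) →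
      (∀ y, ∃ c, (g : Matrix (α × β) (α × β) F) *ᵥ y = y + pure c e) → (g : Matrix (α × β) (α × β) F) *ᵥ x = x := by
    intro x hx g hg hgf hga
    obtain ⟨f, hf⟩ := S.alt₂.exists_one he
    obtain ⟨c, hc⟩ := hga x
    have hc0 : c = 0 := S.alt₁.nd c fun u => by
      obtain ⟨c', hc'⟩ := hga (pure u f)
      have := polar_isom hg x (pure u f)
      rw [hc, hc', QuadraticMap.polar_add_left, QuadraticMap.polar_add_right, QuadraticMap.polar_add_right,
        S.polar_pure x c' e, hx, map_zero, LinearMap.zero_apply, S.polar, S.polar, S.alt₂.self, S.alt₂.skew f e,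
        hf] at this
      linear_combination -this
    rw [hc, hc0, pure_zero_left, add_zero]
  have hkcI : kc ∈ Cfsg.isometryGroup F (⇑Q) := mul_mem (inv_mem hSI) (hX.isom hk)
  have hkcfix : ∀ u, (kc : Matrix (α × β) (α × β) F) *ᵥ pure u e = pure u e := fun u => by
    rw [hkc, mul_mulVec_GL, hka.fix]
    conv_lhs => rw [← hSfix u, mulVec_inv_self]
  have hkcact : ∀ x, ∃ c, (kc : Matrix (α × β) (α × β) F) *ᵥ x = x + pure c e := fun x => by
    obtain ⟨c, hc⟩ := hka.act x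
    rw [hY] at hc
    set a := -QuadraticMap.polar (⇑Q) (pure v w₁) x - Q (pure v w₁) * QuadraticMap.polar (⇑Q) (pure v e) x
    refine ⟨c - a • v, ?_⟩
    have : ((Sg : GL (α × β) F) : Matrix (α × β) (α × β) F) *ᵥ (x + pure (c - a • v) e) =
        (k : Matrix (α × β) (α × β) F) *ᵥ x := by
      rw [hc, mulVec_add, hSfix, hSg, Refl.siegelMap, show pure (c - a • v) e = pure c e - pure (a • v) e from
        map_sub (pureL e) _ _, pure_smul_left]
      abel
    rw [hkc, mul_mulVec_GL, ← this, mulVec_inv_self]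
  obtain ⟨t, htk, htΩ, ht⟩ := S.exists_tW w 1
  have htX := hX.kron t htk htΩ
  have htfix : ∀ u, (t : Matrix (α × β) (α × β) F) *ᵥ pure u e = pure u e := fun u => by
    rw [ht, hew, mul_zero, zero_smul, add_zero]
  have hcomm : t * kc = kc * t := ext_pure_GL fun u z => by
    obtain ⟨f, hf⟩ := S.alt₂.exists_one he
    have hall : ∀ x, (kc : Matrix (α × β) (α × β) F) *ᵥ x =
        x + ((kc : Matrix (α × β) (α × β) F) *ᵥ pure (cw B₂ e x) f - pure (cw B₂ e x) f) := fun x => by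
      have h1 := hzero (x - pure (cw B₂ e x) f) (by rw [map_sub, cw_pure, hf, one_smul, sub_self]) kc hkcI hkcfix hkcact
      rw [mulVec_sub, sub_eq_iff_eq_add] at h1
      rw [h1]
      abel
    rw [mul_mulVec_GL t kc, mul_mulVec_GL kc t, ht, hall (pure u z), hall (pure u (z + _)), cw_pure, cw_pure, map_add,
      LinearMap.add_apply, map_smul, LinearMap.smul_apply, S.alt₂.swap hew, smul_zero, add_zero]
    obtain ⟨c, hc⟩ := hkcact (pure (B₂ z e • u) f)
    rw [hc, add_sub_cancel_left, mulVec_add, ht, htfix]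
  have hconj : t * (Sg : GL (α × β) F) * t⁻¹ * (Sg : GL (α × β) F)⁻¹ ∈ X := by
    have h1 : t * k * t⁻¹ * k⁻¹ ∈ X := mul_mem (mul_mem (mul_mem htX hk) (inv_mem htX)) (inv_mem hk)
    have ek : k = (Sg : GL (α × β) F) * kc := by rw [hkc, mul_inv_cancel_left]
    have ec : t * kc * t⁻¹ = kc := by rw [hcomm, mul_inv_cancel_right]
    have e1 : t * k * t⁻¹ * k⁻¹ = t * (Sg : GL (α × β) F) * t⁻¹ * (Sg : GL (α × β) F)⁻¹ := by
      rw [ek]
      calc t * ((Sg : GL (α × β) F) * kc) * t⁻¹ * ((Sg : GL (α × β) F) * kc)⁻¹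
          = t * (Sg : GL (α × β) F) * t⁻¹ * (t * kc * t⁻¹) * kc⁻¹ * (Sg : GL (α × β) F)⁻¹ := by group
        _ = _ := by rw [ec, mul_inv_cancel_right]
    rwa [e1] at h1
  refine ⟨_, hconj, fun x => ?_⟩
  have hSinv : ∀ y, (((Sg : GL (α × β) F)⁻¹ : GL (α × β) F) : Matrix (α × β) (α × β) F) *ᵥ y =
      Refl.siegelMap Q (pure v e) (-pure v w₁) y := fun y => by
    conv_lhs => rw [show y = ((Sg : GL (α × β) F) : Matrix (α × β) (α × β) F) *ᵥ
      Refl.siegelMap Q (pure v e) (-pure v w₁) y by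
        rw [hSg, Refl.siegel_add Q (S.pure0 v e) huz (by rw [QuadraticMap.polar_neg_right, huz, neg_zero]),
          add_neg_cancel, Refl.siegel_zero]]
    rw [mulVec_inv_self]
  rw [mul_mulVec_GL, mul_mulVec_GL, mul_mulVec_GL, hSinv, hSg]
  have hpol : ∀ a b, QuadraticMap.polar (⇑Q) a (((t⁻¹ : GL (α × β) F) : Matrix (α × β) (α × β) F) *ᵥ b) =
      QuadraticMap.polar (⇑Q) ((t : Matrix (α × β) (α × β) F) *ᵥ a) b := fun a b => by
    rw [← polar_isom (hX.isom htX) a, mulVec_self_inv]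
  have hts : ∀ y, (t : Matrix (α × β) (α × β) F) *ᵥ
      Refl.siegelMap Q (pure v e) (pure v w₁) (((t⁻¹ : GL (α × β) F) : Matrix (α × β) (α × β) F) *ᵥ y) =
      Refl.siegelMap Q (pure v e) (pure v (w₁ + s • w)) y := fun y => by
    have hz : (t : Matrix (α × β) (α × β) F) *ᵥ pure v w₁ = pure v (w₁ + s • w) := by rw [ht, hw₁', one_mul]
    rw [Refl.siegelMap, Refl.siegelMap, mulVec_add, mulVec_add, mulVec_smul, mulVec_smul, mulVec_self_inv, htfix, hz,
      hpol, hpol, htfix, hz, S.pure0, S.pure0]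
  rw [hts, Refl.siegel_add Q (S.pure0 v e) (by rw [S.polar, map_add, map_smul, hw₁, hew]; simp)
    (by rw [QuadraticMap.polar_neg_right, huz, neg_zero]), pure_add_right, pure_smul_right, add_neg_cancel_comm]

end TS

end Cfsg.Lib.Classical.TensorQ
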