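import Cfsg.Agent.Classical.TensorQ.Big

/-! The Siegel elements on pure tensors generate `Ω`. -/

set_option autoImplicit false
set_option linter.unusedSectionVars false
set_option linter.unusedSimpArgs false
set_option linter.unusedVariables false
set_option linter.style.haveILetI false

namespace Cfsg.Lib.Classical.TensorQ

open Matrix Finset
open Cfsg.Lib.Classical.TensorMax (pure pure_apply pure_single pure_ne_zero pure_add_left pure_add_right pure_smul_left
  pure_smul_right pure_zero_left pure_zero_right pureL pureR IsKron)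

universe u

variable {α β : Type} [Fintype α] [DecidableEq α] [Fintype β] [DecidableEq β] {F : Type u} [Field F] [Finite F]
  {B₁ : LinearMap.BilinForm F (α → F)} {B₂ : LinearMap.BilinForm F (β → F)} {Q : QuadraticForm F (α × β → F)}
  {X : Subgroup (GL (α × β) F)}

theorem seed_zero (u : α × β → F) : Seed Q X u 0 :=
  ⟨1, one_mem X, fun x => by rw [Units.val_one, one_mulVec, Refl.siegel_zero]⟩

theorem seed_of_zero (z : α × β → F) : Seed Q X 0 z := by
  refine ⟨1, one_mem X, fun x => ?_⟩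
  simp [Refl.siegelMap]

theorem seed_add {u z z' : α × β → F} (hu : Q u = 0) (hz : QuadraticMap.polar (⇑Q) u z = 0)
    (hz' : QuadraticMap.polar (⇑Q) u z' = 0) (h : Seed Q X u z) (h' : Seed Q X u z') : Seed Q X u (z + z') := by
  obtain ⟨g, hg, e⟩ := h
  obtain ⟨g', hg', e'⟩ := h'
  exact ⟨g * g', mul_mem hg hg', fun x => by rw [mul_mulVec_GL, e', e, Refl.siegel_add Q hu hz hz']⟩

theorem seed_sum {u : α × β → F} (hu : Q u = 0) {κ : Type} (s : Finset κ) (z : κ → α × β → F)
    (hz : ∀ i ∈ s, QuadraticMap.polar (⇑Q) u (z i) = 0) (h : ∀ i ∈ s, Seed Q X u (z i)) :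
    QuadraticMap.polar (⇑Q) u (∑ i ∈ s, z i) = 0 ∧ Seed Q X u (∑ i ∈ s, z i) := by
  classical
  induction s using Finset.induction with
  | empty => simp [seed_zero, QuadraticMap.polar_zero_right]
  | insert a s ha ih =>
    obtain ⟨h1, h2⟩ := ih (fun i hi => hz i (Finset.mem_insert_of_mem hi)) fun i hi => h i (Finset.mem_insert_of_mem hi)
    rw [Finset.sum_insert ha]
    refine ⟨by rw [QuadraticMap.polar_add_right, hz a (Finset.mem_insert_self a s), h1, add_zero], ?_⟩
    exact seed_add hu (hz a (Finset.mem_insert_self a s)) h1 (h a (Finset.mem_insert_self a s)) h2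

theorem seed_conj {g : GL (α × β) F} (hgX : g ∈ X) (hgI : g ∈ Cfsg.isometryGroup F (⇑Q)) {u z : α × β → F}
    (h : Seed Q X u z) :
    Seed Q X ((g : Matrix (α × β) (α × β) F) *ᵥ u) ((g : Matrix (α × β) (α × β) F) *ᵥ z) := by
  obtain ⟨s, hs, e⟩ := h
  refine ⟨g * s * g⁻¹, mul_mem (mul_mem hgX hs) (inv_mem hgX), fun x => ?_⟩
  have hpol : ∀ a, QuadraticMap.polar (⇑Q) a (((g⁻¹ : GL (α × β) F) : Matrix (α × β) (α × β) F) *ᵥ x) =
      QuadraticMap.polar (⇑Q) ((g : Matrix (α × β) (α × β) F) *ᵥ a) x := fun a => by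
    rw [← polar_isom hgI a, mulVec_self_inv]
  rw [mul_mulVec_GL, mul_mulVec_GL, e, Refl.siegelMap, Refl.siegelMap, mulVec_add, mulVec_add, mulVec_smul,
    mulVec_smul, mulVec_self_inv, hpol, hpol, (Refl.mem_iff Q).mp hgI]

namespace TS

variable (S : TS B₁ B₂ Q)
include S

theorem seed_right (hX : Mid Q X) (hA : ¬ RadScalar B₂ X) (v d : α → F) (e f : β → F) (he : e ≠ 0)
    (hef : B₂ e f = 0) : Seed Q X (pure v e) (pure d f) := by
  have main : ∀ d : α → F, B₁ v d ≠ 0 → Seed Q X (pure v e) (pure d f) := by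
    intro d hd
    by_cases hf : f = 0
    · rw [hf, pure_zero_right]
      exact seed_zero _
    obtain ⟨e', f', he', hf', hpair⟩ := S.alt₂.exists_pair_perp ![e, f] (by have := S.five_le; omega)
    have hee' : B₂ e e' = 0 := he' 0
    have hfe' : B₂ f e' = 0 := he' 1
    have hef' : B₂ e f' = 0 := hf' 0
    have hff' : B₂ f f' = 0 := hf' 1
    obtain ⟨g, hg, hgx⟩ := S.seed hX hA d f f' hf hff' (-(B₁ v d)⁻¹)
    have hgu : (g : Matrix (α × β) (α × β) F) *ᵥ pure v e = pure v e := by
      rw [hgx, Refl.siegelMap, S.polar, QuadraticMap.polar_smul_left, S.polar, S.alt₂.swap hef, S.alt₂.swap hef']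
      simp
    have hgz : (g : Matrix (α × β) (α × β) F) *ᵥ pure v e' = pure v e' + pure d f := by
      rw [hgx, Refl.siegelMap, S.polar, QuadraticMap.polar_smul_left, S.polar, hfe', S.alt₁.skew v d,
        S.alt₂.skew e' f', hpair, smul_eq_mul]
      simp only [mul_zero, sub_zero, zero_smul, add_zero]
      rw [show -(-(B₁ v d)⁻¹ * (-B₁ v d * -1)) = 1 by field_simp, one_smul]
    have h1 := seed_conj hg (hX.isom hg) (S.seed hX hA v e e' he hee' 1)
    rw [hgu, one_smul, hgz] at h1
    have h2 := seed_add (S.pure0 v e) (by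
      rw [QuadraticMap.polar_add_right, S.polar, S.polar, hee', hef]; ring)
      (by rw [QuadraticMap.polar_smul_right, S.polar, hee']; simp) h1 (S.seed hX hA v e e' he hee' (-1))
    rwa [neg_one_smul, add_neg_cancel_comm] at h2
  by_cases hd : B₁ v d = 0
  · by_cases hv : v = 0
    · rw [hv, pure_zero_left]
      exact seed_of_zero _
    obtain ⟨d₁, hd₁⟩ := S.alt₁.exists_one hv
    have hne : B₁ v d₁ ≠ 0 := by rw [S.alt₁.skew, hd₁]; exact neg_ne_zero.mpr one_ne_zero
    have h := seed_add (S.pure0 v e) (by rw [S.polar, hef, mul_zero]) (by rw [S.polar, hef, mul_zero])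
      (main (d + d₁) (by rwa [map_add, hd, zero_add])) (main (-d₁) (by rw [map_neg]; exact neg_ne_zero.mpr hne))
    rwa [← pure_add_left, add_neg_cancel_right] at h
  · exact main d hd

theorem seed_left (hX : Mid Q X) (hA : ¬ RadScalar B₂ X) (v d : α → F) (e f : β → F) (he : e ≠ 0)
    (hvd : B₁ v d = 0) : Seed Q X (pure v e) (pure d f) := by
  by_cases hv : v = 0
  · rw [hv, pure_zero_left]
    exact seed_of_zero _
  by_cases hf : f = 0
  · rw [hf, pure_zero_right]
    exact seed_zero _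
  obtain ⟨d', hd'⟩ := S.alt₁.exists_one hv
  obtain ⟨e', k, he', hk, hpair⟩ := S.alt₂.exists_pair_perp ![e, f] (by have := S.five_le; omega)
  have hee' : B₂ e e' = 0 := he' 0
  have hfe' : B₂ f e' = 0 := he' 1
  have hek : B₂ e k = 0 := hk 0
  have hfk : B₂ f k = 0 := hk 1
  obtain ⟨g, hg, hgx⟩ := S.seed_right hX hA d d' f k hf hfk
  have hgu : (g : Matrix (α × β) (α × β) F) *ᵥ pure v e = pure v e := by
    rw [hgx, Refl.siegelMap, S.polar, S.polar, S.alt₁.swap hvd, S.alt₂.swap hek]
    simp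
  have hgz : (g : Matrix (α × β) (α × β) F) *ᵥ pure v e' = pure v e' + pure d f := by
    rw [hgx, Refl.siegelMap, S.polar, S.polar, hfe', hd', S.alt₂.skew e' k, hpair]
    simp
  have h1 := seed_conj hg (hX.isom hg) (S.seed hX hA v e e' he hee' 1)
  rw [hgu, one_smul, hgz] at h1
  have h2 := seed_add (S.pure0 v e) (by rw [QuadraticMap.polar_add_right, S.polar, S.polar, hee', hvd]; ring)
    (by rw [QuadraticMap.polar_smul_right, S.polar, hee']; simp) h1 (S.seed hX hA v e e' he hee' (-1))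
  rwa [neg_one_smul, add_neg_cancel_comm] at h2

theorem seed_pure (hX : Mid Q X) (hA : ¬ RadScalar B₂ X) (v : α → F) (e : β → F) {z : α × β → F}
    (hz : QuadraticMap.polar (⇑Q) (pure v e) z = 0) : Seed Q X (pure v e) z := by
  by_cases he : e = 0
  · rw [he, pure_zero_right]
    exact seed_of_zero _
  by_cases hv : v = 0
  · rw [hv, pure_zero_left]
    exact seed_of_zero _
  obtain ⟨v₁, hv₁⟩ := S.alt₁.exists_one hv
  set row := cv B₁ v z with hrow
  set z' := z - pure v₁ row with hz'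
  have hrowe : B₂ e row = 0 := S.alt₂.swap (by rw [hrow, S.cv_cw, ← S.polar_pure, QuadraticMap.polar_comm, hz])
  have hcol : ∀ k, B₁ v (fun i => z' (i, k)) = 0 := by
    intro k
    refine S.alt₁.swap ?_
    have h0 : cv B₁ v z' = 0 := by rw [hz', map_sub, cv_pure, hv₁, one_smul, hrow, sub_self]
    exact congrFun h0 k
  have hsum : z' = ∑ k, pure (fun i => z' (i, k)) (Pi.single k 1) := funext fun ⟨i, k⟩ => by
    rw [Finset.sum_apply, Finset.sum_eq_single k
      (fun j _ hj => by rw [pure_apply, Pi.single_eq_of_ne (Ne.symm hj), mul_zero])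
      (fun h => absurd (mem_univ k) h), pure_apply, Pi.single_eq_same, mul_one]
  obtain ⟨h1, h2⟩ := seed_sum (X := X) (S.pure0 v e) univ (fun k => pure (fun i => z' (i, k)) (Pi.single k 1))
    (fun k _ => by rw [S.polar, hcol, zero_mul]) (fun k _ => S.seed_left hX hA v _ e _ he (hcol k))
  rw [← hsum] at h1 h2
  have := seed_add (S.pure0 v e) h1 (by rw [S.polar, hrowe, mul_zero]) h2 (S.seed_right hX hA v v₁ e row he hrowe)
  rwa [hz', sub_add_cancel] at this

theorem seed_singular (hX : Mid Q X) (hA : ¬ RadScalar B₂ X) {x z : α × β → F} (hx : Q x = 0)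
    (hz : QuadraticMap.polar (⇑Q) x z = 0) : Seed Q X x z := by
  by_cases hx0 : x = 0
  · rw [hx0]
    exact seed_of_zero _
  obtain ⟨v, w, hvw⟩ : ∃ v w, QuadraticMap.polar (⇑Q) (pure v w) x ≠ 0 := by
    by_contra hc
    push Not at hc
    exact hx0 (S.ext_polar fun v w => by rw [QuadraticMap.polar_comm, hc, QuadraticMap.polar_zero_left])
  set b := QuadraticMap.polar (⇑Q) (pure v w) x with hb
  have hv : v ≠ 0 := fun h => hvw (by rw [hb, h, pure_zero_left, QuadraticMap.polar_zero_left])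
  have hw : w ≠ 0 := fun h => hvw (by rw [hb, h, pure_zero_right, QuadraticMap.polar_zero_left])
  obtain ⟨v', hv'⟩ := S.alt₁.exists_one hv
  obtain ⟨w', hw'⟩ := S.alt₂.exists_one hw
  set y := pure v' (b • w') with hy
  have huy : QuadraticMap.polar (⇑Q) (pure v w) y = b := by
    rw [hy, S.polar, map_smul, S.alt₁.skew v' v, hv', S.alt₂.skew w' w, hw', smul_eq_mul]
    ring
  set z₀ := b⁻¹ • (x - y) with hz₀
  have huz : QuadraticMap.polar (⇑Q) (pure v w) z₀ = 0 := by
    rw [hz₀, QuadraticMap.polar_smul_right, QuadraticMap.polar_sub_right, huy, ← hb, sub_self, smul_zero]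
  obtain ⟨g, hg, hgx⟩ := S.seed_pure hX hA v w huz
  set c := -QuadraticMap.polar (⇑Q) z₀ y - Q z₀ * b with hcdef
  have hgy : (g : Matrix (α × β) (α × β) F) *ᵥ y = x + c • pure v w := by
    rw [hgx, Refl.siegelMap, huy, hz₀, smul_smul, mul_inv_cancel₀ hvw, one_smul, add_sub_cancel, ← hz₀, ← hcdef]
  have hc : c = 0 := by
    have h1 := (Refl.mem_iff Q).mp (hX.isom hg) y
    rw [hgy, WittQuad.val_smul_add, S.pure0, hy, S.pure0, hx, QuadraticMap.polar_comm, ← hb] at h1
    simp only [mul_zero, add_zero, zero_add, mul_eq_zero] at h1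
    exact h1.resolve_right hvw
  rw [hc, zero_smul, add_zero] at hgy
  have hzy : QuadraticMap.polar (⇑Q) y (((g⁻¹ : GL (α × β) F) : Matrix (α × β) (α × β) F) *ᵥ z) = 0 := by
    rw [← polar_isom (hX.isom hg), hgy, mulVec_self_inv, hz]
  have := seed_conj hg (hX.isom hg) (S.seed_pure hX hA v' (b • w') hzy)
  rwa [← hy, hgy, mulVec_self_inv] at this

theorem omega_le (hX : Mid Q X) (hA : ¬ RadScalar B₂ X) : Cfsg.Geo.omegaGL (⇑Q) ≤ X := by
  intro g hg
  obtain ⟨h, hh, rfl⟩ := (Refl.mem_omegaGL Q g).mp hg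
  rw [Refl.omega_eq_closure_all Q S.nondeg S.card_ge] at hh
  induction hh using Subgroup.closure_induction with
  | mem k hk =>
    obtain ⟨x, z, hx, hz, rfl⟩ := hk
    have hmem : ((Refl.siegelG Q hx hz : Cfsg.isometryGroup F (⇑Q)) : GL (α × β) F) ∈ Cfsg.Geo.omegaGL (⇑Q) :=
      mulVec_omega _ (Refl.siegelG_mem_omega Q S.nondeg S.card_ge hx hz)
    obtain ⟨s, hs, hsx⟩ := S.seed_singular hX hA hx hz
    have : s = (Refl.siegelG Q hx hz : Cfsg.isometryGroup F (⇑Q)) := ext_pure_GL fun v w => by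
      rw [hsx]
      exact (Refl.mat_siegelG Q hx hz _).symm
    exact this ▸ hs
  | one => exact one_mem X
  | mul a b ha hb iha ihb =>
    rw [Subgroup.coe_mul]
    rw [← Refl.omega_eq_closure_all Q S.nondeg S.card_ge] at ha hb
    exact mul_mem (iha (mulVec_omega a ha)) (ihb (mulVec_omega b hb))
  | inv a ha iha =>
    rw [Subgroup.coe_inv]
    rw [← Refl.omega_eq_closure_all Q S.nondeg S.card_ge] at ha
    exact inv_mem (iha (mulVec_omega a ha))

end TS

end Cfsg.Lib.Classical.TensorQ
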