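import Cfsg.Agent.Classical.TensorMax.Root
import Cfsg.Agent.Classical.Orth.OmegaGen
import Cfsg.Agent.Classical.Orth.FamilyOvergroups

/-! A quadratic space which is the tensor product of two symplectic spaces. -/

set_option autoImplicit false
set_option linter.unusedSectionVars false
set_option linter.unusedSimpArgs false

namespace Cfsg.Lib.Classical.TensorQ

open Matrix Finset
open Cfsg.Lib.Classical.TensorMax (pure pure_apply pure_single pure_ne_zero pure_add_left pure_add_right pure_smul_left
  pure_smul_right pure_zero_left pure_zero_right pureL pureR)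

universe u

variable {α β : Type} [Fintype α] [DecidableEq α] [Fintype β] [DecidableEq β] {F : Type u} [Field F]

/-- A non-degenerate alternating form. -/
structure Alt {γ : Type} (B : LinearMap.BilinForm F (γ → F)) : Prop where
  self : ∀ v, B v v = 0
  nd : ∀ v, (∀ w, B v w = 0) → v = 0

namespace Alt

variable {γ : Type} [Fintype γ] [DecidableEq γ] {B : LinearMap.BilinForm F (γ → F)} (h : Alt B)
include h

theorem skew (v w : γ → F) : B w v = -B v w := by
  have := h.self (v + w)
  simp only [map_add, LinearMap.add_apply, h.self, add_zero, zero_add] at this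
  linear_combination this

theorem swap {v w : γ → F} (e : B v w = 0) : B w v = 0 := by rw [h.skew, e, neg_zero]

theorem nd' (v : γ → F) (e : ∀ w, B w v = 0) : v = 0 := h.nd v fun w => h.swap (e w)

theorem exists_one {v : γ → F} (hv : v ≠ 0) : ∃ w, B w v = 1 := by
  obtain ⟨w, hw⟩ : ∃ w, B w v ≠ 0 := by
    by_contra hc
    push Not at hc
    exact hv (h.nd' v hc)
  exact ⟨(B w v)⁻¹ • w, by rw [map_smul, LinearMap.smul_apply, smul_eq_mul, inv_mul_cancel₀ hw]⟩

theorem exists_rep (φ : (γ → F) →ₗ[F] F) : ∃ w, ∀ v, B v w = φ v := by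
  have hinj : Function.Injective (B.flip : (γ → F) →ₗ[F] Module.Dual F (γ → F)) := by
    rw [← LinearMap.ker_eq_bot, LinearMap.ker_eq_bot']
    exact fun w hw => h.nd' w fun v => DFunLike.congr_fun hw v
  have hs : Function.Surjective (B.flip : (γ → F) →ₗ[F] Module.Dual F (γ → F)) :=
    (LinearMap.injective_iff_surjective_of_finrank_eq_finrank Subspace.dual_finrank_eq.symm).mp hinj
  obtain ⟨w, hw⟩ := hs φ
  exact ⟨w, fun v => DFunLike.congr_fun hw v⟩

/-- A vector orthogonal to everything orthogonal to `e` is a multiple of `e`. -/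
theorem mem_line {e z : γ → F} (he : e ≠ 0) (hz : ∀ w, B e w = 0 → B z w = 0) : ∃ c : F, z = c • e := by
  obtain ⟨f, hf⟩ := h.exists_one he
  have hef : B e f = -1 := by rw [h.skew, hf]
  refine ⟨-B z f, sub_eq_zero.mp (h.nd _ fun w => ?_)⟩
  have h0 : B e (w + B e w • f) = 0 := by
    rw [map_add, map_smul, hef, smul_eq_mul]; ring
  have := hz _ h0
  rw [map_add, map_smul, smul_eq_mul] at this
  rw [map_sub, LinearMap.sub_apply, map_smul, LinearMap.smul_apply, smul_eq_mul]
  linear_combination this

/-- A small family of vectors has a non-orthogonal pair in its orthogonal. -/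
theorem exists_pair_perp {k : ℕ} (s : Fin k → (γ → F)) (hk : 2 * k < Fintype.card γ) :
    ∃ x y, (∀ i, B (s i) x = 0) ∧ (∀ i, B (s i) y = 0) ∧ B x y = 1 := by
  let L : (γ → F) →ₗ[F] (Fin k → F) := LinearMap.pi fun i => B (s i)
  by_contra hc
  push Not at hc
  set K := LinearMap.ker L with hK
  have hperp : ∀ x ∈ K, ∀ y ∈ K, B x y = 0 := by
    intro x hx y hy
    by_contra hxy
    refine hc x ((B x y)⁻¹ • y) (fun i => congrFun hx i) (fun i => ?_) ?_
    · rw [map_smul, show B (s i) y = 0 from congrFun hy i, smul_zero]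
    · rw [map_smul, smul_eq_mul, inv_mul_cancel₀ hxy]
  have hbig : Fintype.card γ - k ≤ Module.finrank F K := by
    have h1 := L.finrank_range_add_finrank_ker
    have h2 := (LinearMap.range L).finrank_le
    rw [Module.finrank_pi, Fintype.card_fin] at h2
    rw [Module.finrank_pi] at h1
    rw [← hK] at h1; omega
  let T : (γ → F) →ₗ[F] Module.Dual F K := LinearMap.mk₂ F (fun v (x : K) => B (x : γ → F) v)
    (fun a b x => by rw [map_add]) (fun c a x => by rw [map_smul])
    (fun a x y => by rw [Submodule.coe_add, map_add, LinearMap.add_apply])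
    (fun c a x => by rw [Submodule.coe_smul, map_smul, LinearMap.smul_apply])
  have hsurj : Function.Surjective T := by
    intro φ
    obtain ⟨ψ, hψ⟩ := φ.exists_extend
    obtain ⟨w, hw⟩ := h.exists_rep ψ
    exact ⟨w, LinearMap.ext fun x => by
      show B (x : γ → F) w = φ x
      rw [hw]
      exact DFunLike.congr_fun hψ x⟩
  have hker : K ≤ LinearMap.ker T := fun y hy => LinearMap.ext fun x => hperp x x.2 y hy
  have h1 := T.finrank_range_add_finrank_ker
  have h2 := Submodule.finrank_mono hker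
  rw [LinearMap.range_eq_top.mpr hsurj, finrank_top, Subspace.dual_finrank_eq, Module.finrank_pi] at h1
  omega

/-- Two orthogonal hyperbolic pairs orthogonal to a vector. -/
theorem exists_two_pairs (h5 : 5 ≤ Fintype.card γ) {e : γ → F} (he : e ≠ 0) :
    ∃ w w' g g', B e w = 0 ∧ B e w' = 0 ∧ B e g = 0 ∧ B e g' = 0 ∧ B w w' = 1 ∧ B w g = 0 ∧ B w g' = 0 ∧
      B w' g = 0 ∧ B w' g' = 0 ∧ B g g' = 1 := by
  obtain ⟨w, w', hw, hw', hww⟩ := h.exists_pair_perp ![e] (by omega)
  have hew : B e w = 0 := hw 0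
  have hew' : B e w' = 0 := hw' 0
  let L : (γ → F) →ₗ[F] (Fin 3 → F) := LinearMap.pi ![B e, B w, B w']
  have hL : ∀ x, x ∈ LinearMap.ker L ↔ B e x = 0 ∧ B w x = 0 ∧ B w' x = 0 := fun x => by
    rw [LinearMap.mem_ker, funext_iff, Fin.forall_fin_succ, Fin.forall_fin_succ, Fin.forall_fin_succ]
    simp [L]
  by_contra hc
  push Not at hc
  have hle : LinearMap.ker L ≤ Submodule.span F {e} := fun z hz => by
    obtain ⟨c, hzc⟩ := h.mem_line he (z := z) fun u hu => by
      obtain ⟨z1, z2, z3⟩ := (hL z).mp hz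
      set u' := u - B u w' • w + B u w • w' with hu'
      have a1 : B e u' = 0 := by simp [hu', hu, hew, hew']
      have a2 : B w u' = 0 := by simp [hu', h.self, hww, h.skew u w]
      have a3 : B w' u' = 0 := by simp [hu', h.self, h.skew w w', hww, h.skew u w']
      have key : B z u' = 0 := by
        by_contra hne
        exact hc w w' z ((B z u')⁻¹ • u') hew hew' z1 (by rw [map_smul, a1, smul_zero]) hww z2
          (by rw [map_smul, a2, smul_zero]) z3 (by rw [map_smul, a3, smul_zero])
          (by rw [map_smul, smul_eq_mul, inv_mul_cancel₀ hne])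
      simpa [hu', h.swap z2, h.swap z3] using key
    exact Submodule.mem_span_singleton.mpr ⟨c, hzc.symm⟩
  have h1 := Submodule.finrank_mono hle
  rw [finrank_span_singleton he] at h1
  have h2 := L.finrank_range_add_finrank_ker
  have h3 := (LinearMap.range L).finrank_le
  rw [Module.finrank_pi, Fintype.card_fin] at h3
  rw [Module.finrank_pi] at h2
  omega

/-- A transvection-invariant predicate holds at every non-zero vector. -/
theorem transitive {P : (γ → F) → Prop} (hP : ∀ d (t : F) x, P x → P (x + (t * B x d) • d)) {x y : γ → F}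
    (hx : x ≠ 0) (hy : y ≠ 0) (h₀ : P x) : P y := by
  have one : ∀ x y, B x y ≠ 0 → P x → P y := by
    intro x y hxy hPx
    have := hP (y - x) (B x y)⁻¹ x hPx
    rwa [map_sub, h.self, sub_zero, inv_mul_cancel₀ hxy, one_smul, add_sub_cancel] at this
  by_cases hxy : B x y = 0
  · obtain ⟨z, hz1, hz2⟩ : ∃ z, B x z ≠ 0 ∧ B z y ≠ 0 := by
      obtain ⟨a, ha⟩ := h.exists_one hx
      obtain ⟨b, hb⟩ := h.exists_one hy
      have ha' : B x a ≠ 0 := by rw [h.skew, ha]; exact neg_ne_zero.mpr one_ne_zero
      have hb' : B b y ≠ 0 := by rw [hb]; exact one_ne_zero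
      by_cases h1 : B a y = 0
      · by_cases h2 : B x b = 0
        · exact ⟨a + b, by rwa [map_add, h2, add_zero], by rwa [map_add, LinearMap.add_apply, h1, zero_add]⟩
        · exact ⟨b, h2, hb'⟩
      · exact ⟨a, ha', h1⟩
    exact one z y hz2 (one x z hz1 h₀)
  · exact one x y hxy h₀

end Alt

variable (B₁ : LinearMap.BilinForm F (α → F)) (B₂ : LinearMap.BilinForm F (β → F))

/-- Contraction of a tensor against a vector of the second space. -/
def cw (w : β → F) : (α × β → F) →ₗ[F] (α → F) where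
  toFun x i := B₂ (fun k => x (i, k)) w
  map_add' x y := funext fun i => by
    show B₂ (fun k => (x + y) (i, k)) w = B₂ (fun k => x (i, k)) w + B₂ (fun k => y (i, k)) w
    rw [← LinearMap.add_apply, ← map_add]
    rfl
  map_smul' c x := funext fun i => by
    show B₂ (fun k => (c • x) (i, k)) w = c • B₂ (fun k => x (i, k)) w
    rw [← LinearMap.smul_apply, ← map_smul]
    rfl

theorem cw_apply (w : β → F) (x : α × β → F) (i : α) : cw B₂ w x i = B₂ (fun k => x (i, k)) w := rfl

theorem cw_pure (w : β → F) (v : α → F) (z : β → F) : cw B₂ w (pure v z) = B₂ z w • v := by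
  funext i
  rw [cw_apply, Pi.smul_apply, smul_eq_mul, show (fun k => pure v z (i, k)) = v i • z from rfl, map_smul,
    LinearMap.smul_apply, smul_eq_mul, mul_comm]

theorem eq_sum_rows (x : α × β → F) : x = ∑ i, pure (Pi.single i 1) (fun k => x (i, k)) := by
  funext ⟨i, k⟩
  rw [Finset.sum_apply, Finset.sum_eq_single i
    (fun j _ hj => by rw [pure_apply, Pi.single_eq_of_ne (Ne.symm hj), zero_mul])
    (fun h => absurd (mem_univ i) h), pure_apply, Pi.single_eq_same, one_mul]

theorem ext_pure {M : Type*} [AddCommGroup M] [Module F M] {L L' : (α × β → F) →ₗ[F] M}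
    (h : ∀ v w, L (pure v w) = L' (pure v w)) : L = L' :=
  LinearMap.ext fun x => by
    rw [eq_sum_rows x, map_sum, map_sum]
    exact Finset.sum_congr rfl fun i _ => h _ _

theorem ext_pure_GL {g g' : GL (α × β) F}
    (h : ∀ v w, (g : Matrix (α × β) (α × β) F) *ᵥ pure v w = (g' : Matrix (α × β) (α × β) F) *ᵥ pure v w) :
    g = g' := by
  refine Units.ext ?_
  have := ext_pure (L := (g : Matrix (α × β) (α × β) F).mulVecLin) (L' := (g' : Matrix (α × β) (α × β) F).mulVecLin) h
  exact Matrix.toLin'.injective this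

/-- The data of the statement. -/
structure TS (Q : QuadraticForm F (α × β → F)) : Prop where
  polar : ∀ v w v' w', QuadraticMap.polar (⇑Q) (pure v w) (pure v' w') = B₁ v v' * B₂ w w'
  pure0 : ∀ v w, Q (pure v w) = 0
  alt₁ : Alt B₁
  alt₂ : Alt B₂
  nondeg : (QuadraticMap.polarBilin Q).Nondegenerate
  two_le : 2 ≤ Fintype.card α
  lt : Fintype.card α < Fintype.card β
  five_le : 5 ≤ Fintype.card β
  big : Fintype.card α = 2 → ∃ c : F, c ≠ 0 ∧ c ≠ 1

variable {B₁ B₂} {Q : QuadraticForm F (α × β → F)}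

namespace TS

variable (S : TS B₁ B₂ Q)
include S

theorem nonempty_left : Nonempty α := Fintype.card_pos_iff.mp (by have := S.two_le; omega)

theorem nonempty_right : Nonempty β := Fintype.card_pos_iff.mp (by have := S.five_le; omega)

theorem card_ge : 5 ≤ Fintype.card (α × β) := by
  rw [Fintype.card_prod]
  have := S.two_le
  have := S.five_le
  nlinarith

theorem polar_pure (x : α × β → F) (v : α → F) (z : β → F) :
    QuadraticMap.polar (⇑Q) x (pure v z) = B₁ (cw B₂ z x) v := by
  have := ext_pure (L := (QuadraticMap.polarBilin Q).flip (pure v z))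
    (L' := (B₁.flip v).comp (cw B₂ z)) fun v' w' => by
      show QuadraticMap.polar (⇑Q) (pure v' w') (pure v z) = B₁ (cw B₂ z (pure v' w')) v
      rw [S.polar, cw_pure, map_smul, LinearMap.smul_apply, smul_eq_mul, mul_comm]
  exact DFunLike.congr_fun this x

theorem pure_polar (x : α × β → F) (v : α → F) (z : β → F) :
    QuadraticMap.polar (⇑Q) (pure v z) x = B₁ (cw B₂ z x) v := by
  rw [QuadraticMap.polar_comm, S.polar_pure]

theorem ext_polar {x y : α × β → F}
    (h : ∀ v w, QuadraticMap.polar (⇑Q) x (pure v w) = QuadraticMap.polar (⇑Q) y (pure v w)) : x = y := by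
  have := ext_pure (L := QuadraticMap.polarBilin Q x) (L' := QuadraticMap.polarBilin Q y) h
  exact sub_eq_zero.mp (S.nondeg.1 _ fun z => by
    rw [map_sub, LinearMap.sub_apply, this, sub_self])

/-- A vector with all contractions orthogonal to `e` zero lies in `U ⊗ e`. -/
theorem mem_line {e : β → F} (he : e ≠ 0) {x : α × β → F} (hx : ∀ w, B₂ e w = 0 → cw B₂ w x = 0) :
    ∃ c : α → F, x = pure c e := by
  have : ∀ i, ∃ c : F, (fun k => x (i, k)) = c • e := fun i =>
    S.alt₂.mem_line he fun w hw => congrFun (hx w hw) i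
  choose c hc using this
  exact ⟨c, funext fun ⟨i, k⟩ => congrFun (hc i) k⟩

/-- Isometries are detected on pure tensors. -/
theorem isom_of_pure {g : GL (α × β) F} (h0 : ∀ v w, Q ((g : Matrix (α × β) (α × β) F) *ᵥ pure v w) = 0)
    (h : ∀ v w v' w', QuadraticMap.polar (⇑Q) ((g : Matrix (α × β) (α × β) F) *ᵥ pure v w)
      ((g : Matrix (α × β) (α × β) F) *ᵥ pure v' w') = B₁ v v' * B₂ w w') :
    g ∈ Cfsg.isometryGroup F (⇑Q) := by
  have hp : ∀ x y, QuadraticMap.polar (⇑Q) ((g : Matrix (α × β) (α × β) F) *ᵥ x)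
      ((g : Matrix (α × β) (α × β) F) *ᵥ y) = QuadraticMap.polar (⇑Q) x y := by
    intro x y
    have e : ∀ v w, QuadraticMap.polar (⇑Q) ((g : Matrix (α × β) (α × β) F) *ᵥ x)
        ((g : Matrix (α × β) (α × β) F) *ᵥ pure v w) = QuadraticMap.polar (⇑Q) x (pure v w) := by
      intro v w
      exact DFunLike.congr_fun (ext_pure
        (L := ((QuadraticMap.polarBilin Q).flip ((g : Matrix (α × β) (α × β) F) *ᵥ pure v w)).comp
          (g : Matrix (α × β) (α × β) F).mulVecLin)
        (L' := (QuadraticMap.polarBilin Q).flip (pure v w)) fun v' w' => by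
          show QuadraticMap.polar (⇑Q) _ _ = QuadraticMap.polar (⇑Q) _ _
          rw [Matrix.mulVecLin_apply, h, S.polar]) x
    exact DFunLike.congr_fun (ext_pure
      (L := (QuadraticMap.polarBilin Q ((g : Matrix (α × β) (α × β) F) *ᵥ x)).comp
        (g : Matrix (α × β) (α × β) F).mulVecLin)
      (L' := QuadraticMap.polarBilin Q x) e) y
  refine (Refl.mem_iff Q).mpr fun x => ?_
  rw [eq_sum_rows x]
  induction (univ : Finset α) using Finset.induction with
  | empty => simp
  | insert a s ha ih =>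
    rw [Finset.sum_insert ha, mulVec_add, QuadraticMap.map_add (f := Q), QuadraticMap.map_add (f := Q), ih, hp, h0,
      S.pure0]

end TS

theorem polar_isom {g : GL (α × β) F} (hg : g ∈ Cfsg.isometryGroup F (⇑Q)) (x y : α × β → F) :
    QuadraticMap.polar (⇑Q) ((g : Matrix (α × β) (α × β) F) *ᵥ x) ((g : Matrix (α × β) (α × β) F) *ᵥ y) =
      QuadraticMap.polar (⇑Q) x y := by
  simp only [QuadraticMap.polar, ← mulVec_add, (Refl.mem_iff Q).mp hg]

theorem omega_le_isom {g : GL (α × β) F} (hg : g ∈ Cfsg.Geo.omegaGL (⇑Q)) : g ∈ Cfsg.isometryGroup F (⇑Q) := by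
  obtain ⟨h, -, rfl⟩ := (Refl.mem_omegaGL Q g).mp hg
  exact h.2

theorem mulVec_inv_self (g : GL (α × β) F) (x : α × β → F) :
    ((g⁻¹ : GL (α × β) F) : Matrix (α × β) (α × β) F) *ᵥ ((g : Matrix (α × β) (α × β) F) *ᵥ x) = x := by
  rw [mulVec_mulVec, ← Units.val_mul, inv_mul_cancel, Units.val_one, one_mulVec]

theorem mulVec_self_inv (g : GL (α × β) F) (x : α × β → F) :
    (g : Matrix (α × β) (α × β) F) *ᵥ (((g⁻¹ : GL (α × β) F) : Matrix (α × β) (α × β) F) *ᵥ x) = x := by
  rw [mulVec_mulVec, ← Units.val_mul, mul_inv_cancel, Units.val_one, one_mulVec]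

theorem mul_mulVec_GL (g h : GL (α × β) F) (x : α × β → F) :
    ((g * h : GL (α × β) F) : Matrix (α × β) (α × β) F) *ᵥ x =
      (g : Matrix (α × β) (α × β) F) *ᵥ ((h : Matrix (α × β) (α × β) F) *ᵥ x) := by
  rw [mulVec_mulVec, Units.val_mul]

end Cfsg.Lib.Classical.TensorQ
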